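import Mathlib

/-!
Isometry groups of bilinear forms, and the twist of a symmetric form by a semisimple isometry of odd
order into an alternating one.
-/

set_option autoImplicit false

namespace Cfsg.Agent.Spectra36.PG

open Module (finrank)
open LinearMap (BilinForm)

universe u v w

variable {F : Type u} [Field F]
variable {V : Type v} [AddCommGroup V] [Module F V]
variable {W : Type w} [AddCommGroup W] [Module F W]

/-- The isometry group of a bilinear form. -/
def Iso (B : BilinForm F V) : Subgroup (V ≃ₗ[F] V) where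
  carrier := {g | ∀ x y, B (g x) (g y) = B x y}
  one_mem' _ _ := rfl
  mul_mem' := fun {g h} hg hh x y => (hg (h x) (h y)).trans (hh x y)
  inv_mem' := fun {g} hg x y => by
    have h := hg (g.symm x) (g.symm y)
    rw [g.apply_symm_apply, g.apply_symm_apply] at h
    exact h.symm

variable {B : BilinForm F V} {C : BilinForm F W}

theorem iso_ext {g h : Iso B} (H : ∀ x, g.1 x = h.1 x) : g = h := Subtype.ext (LinearEquiv.ext H)

theorem mul_app (g h : Iso B) (x : V) : (g * h).1 x = g.1 (h.1 x) := rfl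

theorem one_app (x : V) : (1 : Iso B).1 x = x := rfl

/-- Minus the identity. -/
def negI (B : BilinForm F V) : Iso B :=
  ⟨LinearEquiv.neg F, fun x y => by simp⟩

theorem negI_app (x : V) : (negI B).1 x = -x := rfl

theorem negI_mul_self : negI B * negI B = 1 := iso_ext fun x => by
  rw [mul_app, negI_app, negI_app, neg_neg, one_app]

theorem negI_comm (g : Iso B) : Commute (negI B) g := iso_ext fun x => by
  rw [mul_app, mul_app, negI_app, negI_app, map_neg]

theorem negI_ne_one (h2 : (2 : F) ≠ 0) [Nontrivial V] : negI B ≠ 1 := by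
  intro h
  obtain ⟨x, hx⟩ := exists_ne (0 : V)
  have h1 : -x = x := congrArg (fun g : Iso B => g.1 x) h
  apply hx
  have h3 : (2 : F) • x = 0 := by rw [two_smul]; exact add_eq_zero_iff_eq_neg.mpr h1.symm
  exact (smul_eq_zero.mp h3).resolve_left h2

theorem eq_one_of_finrank_eq_zero [FiniteDimensional F V] (h : finrank F V = 0) (g : Iso B) : g = 1 := by
  haveI := Module.finrank_zero_iff.mp h
  exact iso_ext fun x => Subsingleton.elim _ _

/-- Similar forms have isomorphic isometry groups. -/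
def isoCongr (e : V ≃ₗ[F] W) {c : F} (hc : c ≠ 0) (he : ∀ x y, C (e x) (e y) = c * B x y) :
    Iso B ≃* Iso C where
  toFun g := ⟨(e.symm.trans g.1).trans e, fun x y => by
    obtain ⟨a, rfl⟩ := e.surjective x
    obtain ⟨b, rfl⟩ := e.surjective y
    show C (e (g.1 (e.symm (e a)))) (e (g.1 (e.symm (e b)))) = C (e a) (e b)
    rw [e.symm_apply_apply, e.symm_apply_apply, he, he, g.2]⟩
  invFun g := ⟨(e.trans g.1).trans e.symm, fun x y => by
    refine mul_left_cancel₀ hc ?_
    show c * B (e.symm (g.1 (e x))) (e.symm (g.1 (e y))) = c * B x y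
    rw [← he, e.apply_symm_apply, e.apply_symm_apply, g.2, he]⟩
  left_inv g := iso_ext fun x => by
    show e.symm (e (g.1 (e.symm (e x)))) = g.1 x
    rw [e.symm_apply_apply, e.symm_apply_apply]
  right_inv g := iso_ext fun x => by
    show e (e.symm (g.1 (e (e.symm x)))) = g.1 x
    rw [e.apply_symm_apply, e.apply_symm_apply]
  map_mul' g h := iso_ext fun x => by
    show e (g.1 (h.1 (e.symm x))) = e (g.1 (e.symm (e (h.1 (e.symm x)))))
    rw [e.symm_apply_apply]

theorem isoCongr_app (e : V ≃ₗ[F] W) {c : F} (hc : c ≠ 0) (he : ∀ x y, C (e x) (e y) = c * B x y)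
    (g : Iso B) (x : V) : (isoCongr e hc he g).1 (e x) = e (g.1 x) := by
  show e (g.1 (e.symm (e x))) = _
  rw [e.symm_apply_apply]

theorem isoCongr_negI (e : V ≃ₗ[F] W) {c : F} (hc : c ≠ 0) (he : ∀ x y, C (e x) (e y) = c * B x y) :
    isoCongr e hc he (negI B) = negI C := iso_ext fun x => by
  obtain ⟨a, rfl⟩ := e.surjective x
  rw [isoCongr_app, negI_app, negI_app, map_neg]

/-- The orthogonal sum of two forms. -/
def prodForm (B : BilinForm F V) (C : BilinForm F W) : BilinForm F (V × W) :=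
  B.compl₁₂ (LinearMap.fst F V W) (LinearMap.fst F V W) +
    C.compl₁₂ (LinearMap.snd F V W) (LinearMap.snd F V W)

theorem prodForm_apply (p q : V × W) : prodForm B C p q = B p.1 q.1 + C p.2 q.2 := rfl

/-- The pair of isometries acting on an orthogonal sum. -/
def glue (B : BilinForm F V) (C : BilinForm F W) : Iso B × Iso C →* Iso (prodForm B C) where
  toFun p := ⟨p.1.1.prodCongr p.2.1, fun x y => by
    rw [prodForm_apply, prodForm_apply]
    exact congrArg₂ (· + ·) (p.1.2 x.1 y.1) (p.2.2 x.2 y.2)⟩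
  map_one' := iso_ext fun _ => rfl
  map_mul' _ _ := iso_ext fun _ => rfl

theorem glue_injective : Function.Injective (glue B C) := by
  intro p q h
  refine Prod.ext (iso_ext fun x => ?_) (iso_ext fun y => ?_)
  · exact congrArg Prod.fst (congrArg (fun g : Iso (prodForm B C) => g.1 (x, 0)) h)
  · exact congrArg Prod.snd (congrArg (fun g : Iso (prodForm B C) => g.1 (0, y)) h)

section split

variable {X : Type*} [AddCommGroup X] [Module F X] {D : BilinForm F X}

/-- The hom attached to an orthogonal decomposition up to similarity. -/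
def emb (e : (V × W) ≃ₗ[F] X) {c : F} (hc : c ≠ 0)
    (he : ∀ p q, D (e p) (e q) = c * prodForm B C p q) : Iso B × Iso C →* Iso D :=
  (isoCongr e hc he).toMonoidHom.comp (glue B C)

variable {e : (V × W) ≃ₗ[F] X} {c : F} {hc : c ≠ 0} {he : ∀ p q, D (e p) (e q) = c * prodForm B C p q}

theorem emb_app (g : Iso B) (h : Iso C) (x : V) (y : W) :
    (emb e hc he (g, h)).1 (e (x, y)) = e (g.1 x, h.1 y) :=
  isoCongr_app e hc he (glue B C (g, h)) (x, y)

theorem emb_injective : Function.Injective (emb e hc he) :=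
  fun _ _ h => glue_injective ((isoCongr e hc he).injective h)

theorem emb_negI : emb e hc he (negI B, negI C) = negI D := by
  refine iso_ext fun z => ?_
  obtain ⟨⟨x, y⟩, rfl⟩ := e.surjective z
  rw [emb_app, negI_app, negI_app, negI_app, ← map_neg]
  rfl

theorem det_emb [FiniteDimensional F V] [FiniteDimensional F W] (g : Iso B) (h : Iso C) :
    LinearMap.det ((emb e hc he (g, h)).1 : X →ₗ[F] X) =
      LinearMap.det (g.1 : V →ₗ[F] V) * LinearMap.det (h.1 : W →ₗ[F] W) := by
  have : ((emb e hc he (g, h)).1 : X →ₗ[F] X) = (e : V × W →ₗ[F] X).comp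
      ((LinearMap.prodMap (g.1 : V →ₗ[F] V) (h.1 : W →ₗ[F] W)).comp (e.symm : X →ₗ[F] V × W)) := rfl
  rw [this, LinearMap.det_conj, LinearMap.det_prodMap]

end split

theorem eq_one_or_negI_of_finrank_eq_one (hV : finrank F V = 1) (hB : ∀ x, (∀ y, B x y = 0) → x = 0)
    (g : Iso B) : g = 1 ∨ g = negI B := by
  obtain ⟨v, hv, hspan⟩ := finrank_eq_one_iff'.mp hV
  obtain ⟨c, hc⟩ := hspan (g.1 v)
  obtain ⟨y, hy⟩ : ∃ y, B v y ≠ 0 := by
    by_contra h; push Not at h; exact hv (hB v h)
  obtain ⟨d, rfl⟩ := hspan y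
  have hvv : B v v ≠ 0 := fun h => hy (by rw [map_smul, h, smul_zero])
  have h1 := g.2 v v
  rw [← hc, map_smul, map_smul, LinearMap.smul_apply, smul_eq_mul, smul_eq_mul, ← mul_assoc,
    mul_eq_right₀ hvv, mul_self_eq_one_iff] at h1
  rcases h1 with rfl | rfl
  · exact Or.inl (iso_ext fun x => by
      obtain ⟨a, rfl⟩ := hspan x
      rw [map_smul, ← hc, one_smul, one_app])
  · exact Or.inr (iso_ext fun x => by
      obtain ⟨a, rfl⟩ := hspan x
      rw [map_smul, ← hc, negI_app, neg_one_smul, smul_neg])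

/-- The split of a space by a semisimple isometry of odd order, and the twisted form. -/
theorem exists_twist [FiniteDimensional F V] {ε : F} (hsym : ∀ x y, B y x = ε * B x y)
    (hnd : ∀ x, (∀ y, B x y = 0) → x = 0) (t : Iso B) {M : ℕ} (hM : Odd M) (hMF : (M : F) ≠ 0)
    (htM : t ^ M = 1) :
    ∃ (U Z : Submodule F V) (e : (U × Z) ≃ₗ[F] V)
      (he : ∀ p q, B (e p) (e q) = 1 * prodForm (B.restrict U) (B.restrict Z) p q)
      (tU : Iso (B.restrict U)) (A : BilinForm F U),
      (∀ u z, e (u, z) = (u : V) + z) ∧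
      finrank F U + finrank F Z = finrank F V ∧
      (∀ x : U, (∀ y : U, B x y = 0) → x = 0) ∧
      (∀ x : Z, (∀ y : Z, B x y = 0) → x = 0) ∧
      (∀ x y : U, A y x = -ε * A x y) ∧
      (∀ x : U, (∀ y : U, A x y = 0) → x = 0) ∧
      (∀ x y : U, A x y = B ((tU.1 x : U) - tU⁻¹.1 x : V) y) ∧
      emb e one_ne_zero he (tU, 1) = t ∧
      (∀ x : U, tU.1 x = x → x = 0) ∧
      (∀ g : Iso B, Commute g t →
        ∃ (gU : Iso (B.restrict U)) (gZ : Iso (B.restrict Z)),
          emb e one_ne_zero he (gU, gZ) = g ∧ Commute gU tU) ∧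
      (∀ g : U ≃ₗ[F] U, Commute g tU.1 → (g ∈ Iso (B.restrict U) ↔ g ∈ Iso A)) := by
  classical
  let T : Module.End F V := t.1.toLinearMap
  let U := LinearMap.range (T - 1)
  let Z := LinearMap.ker (T - 1)
  have hT : ∀ x, T x = t.1 x := fun _ => rfl
  have hTpow : ∀ (j : ℕ) (x : V), (T ^ j) x = (t ^ j).1 x := by
    intro j
    induction j with
    | zero => intro x; rfl
    | succ j ih => intro x; rw [pow_succ, pow_succ, Module.End.mul_apply, mul_app, ih]; rfl
  have hZ : ∀ x, x ∈ Z ↔ t.1 x = x := fun x => by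
    show (T - 1) x = 0 ↔ _
    rw [LinearMap.sub_apply, Module.End.one_apply, sub_eq_zero]; rfl
  have hdisj : Disjoint U Z := by
    rw [Submodule.disjoint_def]
    rintro x ⟨y, rfl⟩ hx
    rw [hZ] at hx
    set x := (T - 1) y with hxdef
    have hy : t.1 y = y + x := by
      rw [hxdef, LinearMap.sub_apply, Module.End.one_apply, hT]; abel
    have hj : ∀ j : ℕ, (t ^ j).1 y = y + (j : F) • x := by
      intro j
      induction j with
      | zero => simp [one_app]
      | succ j ih =>
        rw [pow_succ', mul_app, ih, map_add, map_smul, hx, hy, Nat.cast_succ, add_smul, one_smul]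
        abel
    have h := hj M
    rw [htM, one_app] at h
    exact (smul_eq_zero.mp (add_eq_left.mp h.symm)).resolve_left hMF
  have hdim : finrank F U + finrank F Z = finrank F V := (T - 1).finrank_range_add_finrank_ker
  have hcompl : IsCompl U Z := ⟨hdisj, codisjoint_iff.mpr (Submodule.eq_top_of_finrank_eq (by
    have := Submodule.finrank_sup_add_finrank_inf_eq U Z
    rw [hdisj.eq_bot, finrank_bot, add_zero] at this
    omega))⟩
  have hperp : ∀ x ∈ U, ∀ z ∈ Z, B x z = 0 := by
    rintro _ ⟨y, rfl⟩ z hz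
    rw [LinearMap.sub_apply, Module.End.one_apply, map_sub, LinearMap.sub_apply, sub_eq_zero, hT]
    conv_lhs => rw [← (hZ z).mp hz]
    exact t.2 y z
  have hperp' : ∀ z ∈ Z, ∀ x ∈ U, B z x = 0 := fun z hz x hx => by
    rw [hsym, hperp x hx z hz, mul_zero]
  let e : (U × Z) ≃ₗ[F] V := Submodule.prodEquivOfIsCompl U Z hcompl
  have he0 : ∀ (u : U) (z : Z), e (u, z) = (u : V) + z := fun u z => rfl
  have he : ∀ p q, B (e p) (e q) = 1 * prodForm (B.restrict U) (B.restrict Z) p q := by
    rintro ⟨a, b⟩ ⟨a', b'⟩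
    rw [he0, he0, one_mul, prodForm_apply]
    simp only [map_add, LinearMap.add_apply, LinearMap.BilinForm.restrict_apply, LinearMap.domRestrict_apply]
    rw [hperp _ a.2 _ b'.2, hperp' _ b.2 _ a'.2, add_zero, zero_add]
  have hndU : ∀ x : U, (∀ y : U, B x y = 0) → x = 0 := fun x hx => by
    refine Subtype.ext (hnd x fun z => ?_)
    obtain ⟨⟨a, b⟩, rfl⟩ := e.surjective z
    rw [he0, map_add, hx a, hperp _ x.2 _ b.2, add_zero]
  have hndZ : ∀ x : Z, (∀ y : Z, B x y = 0) → x = 0 := fun x hx => by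
    refine Subtype.ext (hnd x fun z => ?_)
    obtain ⟨⟨a, b⟩, rfl⟩ := e.surjective z
    rw [he0, map_add, hx b, hperp' _ x.2 _ a.2, add_zero]
  -- restriction of commuting isometries
  have hres : ∀ g : Iso B, Commute g t →
      ∃ (gU : Iso (B.restrict U)) (gZ : Iso (B.restrict Z)), (∀ x, (gU.1 x : V) = g.1 x) ∧
        (∀ x, (gZ.1 x : V) = g.1 x) := by
    intro g hg
    have hc : ∀ x, g.1 (t.1 x) = t.1 (g.1 x) := fun x => congrArg (fun h : Iso B => h.1 x) hg.eq
    have hgU : ∀ x ∈ U, g.1.toLinearMap x ∈ U := by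
      rintro _ ⟨y, rfl⟩
      exact ⟨g.1 y, by simp [T, hc]⟩
    have hgZ : ∀ x ∈ Z, g.1.toLinearMap x ∈ Z := fun x hx => by
      rw [hZ] at hx ⊢
      show t.1 (g.1 x) = g.1 x
      rw [← hc, hx]
    refine ⟨⟨LinearEquiv.ofInjectiveEndo (g.1.toLinearMap.restrict hgU) fun a b h =>
        Subtype.ext (g.1.injective (congrArg Subtype.val h)), fun x y => g.2 x y⟩,
      ⟨LinearEquiv.ofInjectiveEndo (g.1.toLinearMap.restrict hgZ) fun a b h =>
        Subtype.ext (g.1.injective (congrArg Subtype.val h)), fun x y => g.2 x y⟩,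
      fun x => rfl, fun x => rfl⟩
  obtain ⟨tU, tZ, htU, htZ⟩ := hres t (Commute.refl t)
  have htZ1 : tZ = 1 := iso_ext fun x => Subtype.ext (by rw [htZ, (hZ _).mp x.2]; rfl)
  have hfix : ∀ x : U, tU.1 x = x → x = 0 := fun x hx =>
    Subtype.ext ((Submodule.disjoint_def.mp hdisj) x x.2 ((hZ _).mpr (by rw [← htU, hx])))
  have htUM : tU ^ M = 1 := by
    have hj : ∀ (j : ℕ) (x : U), ((tU ^ j).1 x : V) = (t ^ j).1 x := by
      intro j
      induction j with
      | zero => intro x; rfl
      | succ j ih => intro x; rw [pow_succ', pow_succ', mul_app, mul_app, htU, ih]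
    exact iso_ext fun x => Subtype.ext (by rw [hj, htM]; rfl)
  have hfix2 : ∀ x : U, tU.1 x = tU⁻¹.1 x → x = 0 := by
    intro x hx
    refine hfix x ?_
    have h2 : (tU ^ 2).1 x = x := by
      rw [sq, mul_app, hx, ← mul_app, mul_inv_cancel, one_app]
    obtain ⟨m, rfl⟩ := hM
    have h3 : ∀ j, (tU ^ (2 * j)).1 x = x := by
      intro j
      induction j with
      | zero => rfl
      | succ j ih => rw [mul_add, mul_one, pow_add, mul_app, h2, ih]
    conv_rhs => rw [← one_app (B := B.restrict U) x, ← htUM, pow_succ', mul_app, h3]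
  let Xm : U →ₗ[F] U := (tU.1 : U →ₗ[F] U) - (tU⁻¹.1 : U →ₗ[F] U)
  have hXm : ∀ x, Xm x = tU.1 x - tU⁻¹.1 x := fun x => rfl
  have hXinj : Function.Injective Xm := by
    rw [injective_iff_map_eq_zero]
    exact fun x hx => hfix2 x (sub_eq_zero.mp hx)
  have hXsurj : Function.Surjective Xm := LinearMap.injective_iff_surjective.mp hXinj
  let A : BilinForm F U := (B.restrict U).comp Xm LinearMap.id
  have hA : ∀ x y, A x y = B ((tU.1 x : U) - tU⁻¹.1 x : V) y := fun x y => rfl
  have hskew : ∀ x y : U, (B.restrict U) (Xm x) y = -(B.restrict U) x (Xm y) := by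
    intro x y
    have h1 := tU.2 x (tU⁻¹.1 y)
    have h2 := tU⁻¹.2 x (tU.1 y)
    rw [← mul_app, mul_inv_cancel, one_app] at h1
    rw [← mul_app, inv_mul_cancel, one_app] at h2
    rw [hXm, hXm, map_sub, map_sub, LinearMap.sub_apply, h1, h2]
    ring
  refine ⟨U, Z, e, he, tU, A, he0, hdim, hndU, hndZ, fun x y => ?_, fun x hx => ?_, hA, ?_, hfix,
    fun g hg => ?_, fun g hg => ?_⟩
  · show (B.restrict U) (Xm y) x = -ε * (B.restrict U) (Xm x) y
    rw [hskew]
    show -B (y : V) (Xm x : V) = -ε * B (Xm x : V) (y : V)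
    rw [hsym (Xm x : V) (y : V)]; ring
  · exact hXinj ((hndU (Xm x) hx).trans (map_zero Xm).symm)
  · refine iso_ext fun z => ?_
    obtain ⟨⟨a, b⟩, rfl⟩ := e.surjective z
    rw [emb_app, he0, he0, map_add, one_app, htU, (hZ _).mp b.2]
  · obtain ⟨gU, gZ, hgU, hgZ⟩ := hres g hg
    refine ⟨gU, gZ, iso_ext fun z => ?_, iso_ext fun x => Subtype.ext ?_⟩
    · obtain ⟨⟨a, b⟩, rfl⟩ := e.surjective z
      rw [emb_app, he0, he0, map_add, hgU, hgZ]
    · rw [mul_app, mul_app, hgU, htU, htU, hgU]
      exact congrArg (fun h : Iso B => h.1 (x : V)) hg.eq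
  · have hgX : ∀ x, g (Xm x) = Xm (g x) := fun x => by
      rw [hXm, hXm, map_sub]
      congr 1
      · exact LinearEquiv.congr_fun hg.eq x
      · exact LinearEquiv.congr_fun hg.inv_right.eq x
    constructor
    · intro h x y
      show (B.restrict U) (Xm (g x)) (g y) = (B.restrict U) (Xm x) y
      rw [← hgX]; exact h _ _
    · intro h x y
      obtain ⟨a, rfl⟩ := hXsurj x
      rw [hgX]
      exact h a y

end Cfsg.Agent.Spectra36.PG
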