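import Mathlib
import Cfsg.Agent.Spectra36.PG.Core

/-!
If a fixed-point-free semisimple isometry `t` of odd order has `det (t - t⁻¹)` a square, then its
centraliser contains an element other than `± 1` whose square is `± 1`.
-/

set_option autoImplicit false

namespace Cfsg.Agent.Spectra36.PG

open Module (finrank End)
open LinearMap (BilinForm)

universe u v

variable {F : Type u} [Field F] [Fintype F] {U : Type v} [AddCommGroup U] [Module F U] [FiniteDimensional F U]

theorem exists_centralizing_of_isSquare_det [Nontrivial U] (h2 : (2 : F) ≠ 0) {B : BilinForm F U}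
    (hsym : ∀ x y, B y x = B x y) (hnd : ∀ x, (∀ y, B x y = 0) → x = 0)
    (t : Iso B) {M : ℕ} (hM : Odd M) (hMF : (M : F) ≠ 0) (htM : t ^ M = 1)
    (hfix : ∀ x, t.1 x = x → x = 0)
    (hsq : IsSquare (LinearMap.det ((t.1 : U →ₗ[F] U) - (t⁻¹.1 : U →ₗ[F] U)))) :
    ∃ y : Iso B, Commute y t ∧ (y * y = 1 ∨ y * y = negI B) ∧ y ≠ 1 ∧ y ≠ negI B := by
  classical
  haveI : Finite U := Module.finite_of_finite F
  haveI : Finite (End F U) := Finite.of_injective (fun f => (f : U → U)) DFunLike.coe_injective
  let T : End F U := t.1.toLinearMap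
  let T' : End F U := t⁻¹.1.toLinearMap
  let S : End F U := T + T'
  let X : End F U := T - T'
  have hTT' : T * T' = 1 := LinearMap.ext fun x => congrArg (fun g : Iso B => g.1 x) (mul_inv_cancel t)
  have hT'T : T' * T = 1 := LinearMap.ext fun x => congrArg (fun g : Iso B => g.1 x) (inv_mul_cancel t)
  have hTM : T ^ M = 1 := by
    have hj : ∀ j : ℕ, T ^ j = (t ^ j).1.toLinearMap := by
      intro j
      induction j with
      | zero => rfl
      | succ j ih => rw [pow_succ, ih, pow_succ]; rfl
    rw [hj, htM]; rfl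
  have hadjT : ∀ x y, B (T x) y = B x (T' y) := fun x y => by
    have := t.2 x (T' y)
    rwa [show t.1 (T' y) = y from LinearMap.congr_fun hTT' y] at this
  have hadjT' : ∀ x y, B (T' x) y = B x (T y) := fun x y => by rw [hsym, ← hadjT, hsym]
  have hTfix2 : ∀ x, T (T x) = x → x = 0 := fun x hx => hfix x (by
    obtain ⟨m, rfl⟩ := hM
    have h3 : ∀ j, (T ^ (2 * j)) x = x := by
      intro j
      induction j with
      | zero => rfl
      | succ j ih => rw [mul_add, mul_one, pow_add, Module.End.mul_apply, sq, Module.End.mul_apply, hx, ih]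
    have := LinearMap.congr_fun hTM x
    rw [pow_succ', Module.End.mul_apply, h3] at this
    exact this)
  have hXinj : ∀ x, X x = 0 → x = 0 := fun x hx => hTfix2 x (by
    rw [LinearMap.sub_apply, sub_eq_zero] at hx
    rw [hx, ← Module.End.mul_apply, hTT', Module.End.one_apply])
  have hXanti : ∀ x y, B (X x) y = -B x (X y) := fun x y => by
    simp only [X, LinearMap.sub_apply, map_sub, hadjT, hadjT']; ring
  -- the self-adjoint algebra
  let A := Algebra.adjoin F ({S} : Set (End F U))
  haveI : Finite A := Finite.of_injective _ Subtype.val_injective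
  haveI : Fintype A := Fintype.ofFinite A
  have hST : Commute S T :=
    (Commute.refl T).add_left (show Commute T' T from (hT'T.trans hTT'.symm))
  have hAT : ∀ a : A, Commute (a : End F U) T := fun a =>
    (Algebra.commute_of_mem_adjoin_singleton_of_commute a.2 hST.symm).symm
  have hAT' : ∀ a : A, Commute (a : End F U) T' := fun a =>
    (Algebra.commute_of_mem_adjoin_singleton_of_commute a.2
      (show Commute T' S from (show Commute T' T from hT'T.trans hTT'.symm).add_right (Commute.refl T'))).symm
  have hAX : ∀ a : A, Commute (a : End F U) X := fun a => (hAT a).sub_right (hAT' a)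
  have hcomm : ∀ a b : A, a * b = b * a := fun a b =>
    Subtype.ext (Algebra.commute_of_mem_adjoin_singleton_of_commute b.2
      ((Algebra.commute_of_mem_adjoin_self a.2).symm)).eq
  have hself : ∀ (a : A) x y, B ((a : End F U) x) y = B x ((a : End F U) y) := by
    rintro ⟨a, ha⟩
    induction ha using Algebra.adjoin_induction with
    | mem z hz =>
      rw [Set.mem_singleton_iff] at hz; subst hz
      intro x y
      simp only [S, LinearMap.add_apply, map_add, hadjT, hadjT']; ring
    | algebraMap c => intro x y; simp [Module.algebraMap_end_apply]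
    | add z w _ _ hz hw =>
      intro x y
      show B ((z + w) x) y = B x ((z + w) y)
      simp only [LinearMap.add_apply, map_add]
      exact congrArg₂ (· + ·) (hz x y) (hw x y)
    | mul z w hz' hw' hz hw =>
      intro x y
      show B ((z * w) x) y = B x ((z * w) y)
      rw [show z * w = w * z from congrArg Subtype.val (hcomm ⟨z, hz'⟩ ⟨w, hw'⟩)]
      show B (w (z x)) y = B x (w (z y))
      rw [← show (z * w) y = w (z y) from LinearMap.congr_fun (congrArg Subtype.val (hcomm ⟨z, hz'⟩ ⟨w, hw'⟩)) y]
      exact (hw (z x) y).trans (hz x (w y))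
  -- all elements are fixed by a power of Frobenius
  obtain ⟨p, hp⟩ := CharP.exists F
  haveI := hp
  haveI : Fact p.Prime := ⟨CharP.char_is_prime F p⟩
  obtain ⟨e₀, -, hqe⟩ := FiniteField.card F p
  haveI : CharP (End F U) p := charP_of_injective_algebraMap (algebraMap F _).injective p
  set Q := Fintype.card F ^ Nat.totient M with hQ
  have hMq : Nat.Coprime (Fintype.card F) M := by
    rw [hqe]
    exact Nat.Coprime.pow_left _ ((Fact.out : p.Prime).coprime_iff_not_dvd.mpr fun h =>
      hMF ((CharP.cast_eq_zero_iff F p M).mpr h))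
  have hQM : Q ≡ 1 [MOD M] := Nat.ModEq.pow_totient hMq
  have hpow : ∀ G : End F U, G ^ M = 1 → G ^ Q = G := by
    intro G hG
    conv_rhs => rw [← pow_one G]
    rw [← Nat.mod_add_div Q M, ← Nat.mod_add_div 1 M, show Q % M = 1 % M from hQM, pow_add, pow_add,
      pow_mul, pow_mul, hG, one_pow, one_pow]
  have hfrob : ∀ a : A, a ^ Q = a := by
    have hQp : Q = p ^ ((e₀ : ℕ) * Nat.totient M) := by rw [hQ, hqe, ← pow_mul]
    rintro ⟨a, ha⟩
    refine Subtype.ext ?_
    show a ^ Q = a
    induction ha using Algebra.adjoin_induction with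
    | mem z hz =>
      rw [Set.mem_singleton_iff] at hz; subst hz
      show (T + T') ^ Q = T + T'
      rw [hQp, add_pow_char_pow_of_commute p _ (hTT'.trans hT'T.symm), ← hQp, hpow T hTM, hpow T' (by
        have h := congrArg (fun g => T' ^ M * g) hTM
        rw [mul_one, ← (show Commute T' T from hT'T.trans hTT'.symm).mul_pow, hT'T, one_pow] at h
        exact h.symm)]
    | algebraMap c => rw [← map_pow, hQ, FiniteField.pow_card_pow]
    | add z w hz' hw' hz hw =>
      rw [hQp, add_pow_char_pow_of_commute p _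
        (congrArg Subtype.val (hcomm ⟨z, hz'⟩ ⟨w, hw'⟩)), ← hQp, hz, hw]
    | mul z w hz' hw' hz hw =>
      rw [(show Commute z w from congrArg Subtype.val (hcomm ⟨z, hz'⟩ ⟨w, hw'⟩)).mul_pow, hz, hw]
  have hQ2 : 2 ≤ Q := by
    have hM0 : 0 < M := hM.pos
    calc 2 ≤ Fintype.card F := Fintype.one_lt_card
      _ ≤ Q := Nat.le_self_pow (Nat.totient_pos.mpr hM0).ne' _
  -- an idempotent gives an involution
  by_cases hidem : ∃ a : A, a ≠ 0 ∧ a ^ (Q - 1) ≠ 1
  · obtain ⟨a, ha0, ha1⟩ := hidem
    set f := a ^ (Q - 1) with hf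
    have hfa : f * a = a := by rw [hf, ← pow_succ, Nat.sub_add_cancel (by omega), hfrob]
    have hff : f * f = f := by
      obtain ⟨Q', hQ'⟩ : ∃ Q', Q - 1 = Q' + 1 := ⟨Q - 2, by omega⟩
      conv_lhs => arg 2; rw [hf, hQ', pow_succ']
      rw [← mul_assoc, hfa, ← pow_succ', ← hQ']
    have hf0 : f ≠ 0 := fun h => ha0 (by rw [← hfa, h, zero_mul])
    let g : A := 1 - 2 * f
    have hgg : g * g = 1 := by
      simp only [g, mul_sub, sub_mul, mul_one, one_mul]
      rw [show 2 * f * (2 * f) = 4 * (f * f) by
        rw [mul_assoc, ← mul_assoc f, hcomm f 2, mul_assoc, ← mul_assoc]; norm_num, hff]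
      noncomm_ring
    have hgx : ∀ x, (g : End F U) ((g : End F U) x) = x := fun x =>
      LinearMap.congr_fun (congrArg Subtype.val hgg) x
    let gE : U ≃ₗ[F] U := LinearEquiv.ofLinearMap (g : End F U) (g : End F U)
      (LinearMap.ext hgx) (LinearMap.ext hgx)
    refine ⟨⟨gE, fun x y => ?_⟩, iso_ext fun x => LinearMap.congr_fun (hAT g).eq x,
      Or.inl (iso_ext hgx), fun h => ?_, fun h => ?_⟩
    · show B ((g : End F U) x) ((g : End F U) y) = B x y
      rw [hself, hgx]
    · have h1 : g = 1 := Subtype.ext (LinearMap.ext fun x => congrArg (fun z : Iso B => z.1 x) h)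
      have h3 : (2 : F) • f = 0 := by
        rw [two_smul, ← two_mul]; simpa [g] using h1
      exact hf0 ((smul_eq_zero.mp h3).resolve_left h2)
    · have h1 : g = -1 := Subtype.ext (LinearMap.ext fun x => congrArg (fun z : Iso B => z.1 x) h)
      have h3 : (2 : F) • (1 - f) = 0 := by
        rw [two_smul]
        have : 1 - f + (1 - f) = g + 1 := by simp only [g, two_mul]; abel
        rw [this, h1]; abel
      exact ha1 (sub_eq_zero.mp ((smul_eq_zero.mp h3).resolve_left h2)).symm
  push Not at hidem
  -- the field case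
  have hfield : IsField A := by
    obtain ⟨x, hx⟩ := exists_ne (0 : U)
    refine ⟨⟨0, 1, fun h => hx (LinearMap.congr_fun (congrArg Subtype.val h.symm) x)⟩, hcomm, fun {a} ha => ?_⟩
    exact ⟨a ^ (Q - 2), by rw [← pow_succ', show Q - 2 + 1 = Q - 1 by omega, hidem a ha]⟩
  letI : Field A := hfield.toField
  let s : A := ⟨S, Algebra.self_mem_adjoin_singleton F S⟩
  let δ : A := s * s - 4
  have hδ : ∀ x, (δ : End F U) x = X (X x) := by
    have : (δ : End F U) = X * X := by
      show S * S - 4 = X * X
      have h4 : (4 : End F U) = T * T' + T * T' + (T' * T + T' * T) := by rw [hTT', hT'T]; norm_num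
      rw [h4]; simp only [S, X]; noncomm_ring
    exact fun x => by rw [this]; rfl
  have hδ0 : δ ≠ 0 := fun h => by
    obtain ⟨x, hx⟩ := exists_ne (0 : U)
    exact hx (hXinj _ (hXinj _ (by rw [← hδ, h]; rfl)))
  have haX : ∀ (a : A) x, (a : End F U) (X x) = X ((a : End F U) x) := fun a x =>
    LinearMap.congr_fun (hAX a).eq x
  have hcross : ∀ (a : A) x, B (X ((a : End F U) x)) x = 0 := by
    intro a x
    have h : B (X ((a : End F U) x)) x = -B (X ((a : End F U) x)) x := by
      conv_lhs => rw [hXanti, hself, haX, hsym]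
    have h' : (2 : F) * B (X ((a : End F U) x)) x = 0 := by linear_combination h
    exact (mul_eq_zero.mp h').resolve_left h2
  obtain ⟨w, hw⟩ : ∃ w, B w w ≠ 0 := by
    by_contra hall; push Not at hall
    obtain ⟨x, hx⟩ := exists_ne (0 : U)
    refine hx (hnd x fun y => ?_)
    have := hall (x + y)
    simp only [map_add, LinearMap.add_apply, hall x, hall y, hsym x y, zero_add, add_zero] at this
    exact (mul_eq_zero.mp (by linear_combination this : (2 : F) * B x y = 0)).resolve_left h2
  let π : (A × A) →ₗ[F] U :=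
    { toFun := fun p => (p.1 : End F U) w + (p.2 : End F U) (X w)
      map_add' := fun p q => by
        show ((p.1 + q.1 : A) : End F U) w + ((p.2 + q.2 : A) : End F U) (X w) = _
        simp only [AddMemClass.coe_add, LinearMap.add_apply]
        abel
      map_smul' := fun c p => by simp }
  let P := LinearMap.range π
  have hPnd : ∀ a b : A, (∀ x ∈ P, B (π (a, b)) x = 0) → a = 0 ∧ b = 0 := by
    intro a b h
    have ha : a = 0 := by
      by_contra ha
      have h1 := h (π (a⁻¹, 0)) ⟨_, rfl⟩
      apply hw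
      have h3 : B ((a : End F U) w + (b : End F U) (X w)) ((↑(a⁻¹) : End F U) w) = B w w := by
        rw [map_add, LinearMap.add_apply, ← hself, ← hself, ← Module.End.mul_apply, ← Module.End.mul_apply,
          ← MulMemClass.coe_mul, ← MulMemClass.coe_mul, inv_mul_cancel₀ ha, haX, hcross, add_zero]
        rfl
      rw [← h3]
      simpa [π] using h1
    subst ha
    refine ⟨rfl, by_contra fun hb => hw ?_⟩
    have h1 := h (π (0, b⁻¹ * δ⁻¹)) ⟨_, rfl⟩
    have h3 : B ((b : End F U) (X w)) ((↑(b⁻¹ * δ⁻¹) : End F U) (X w)) = -B w w := by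
      rw [← hself, haX, haX, hXanti, hsym, ← hδ, hself, ← Module.End.mul_apply, ← Module.End.mul_apply,
        ← MulMemClass.coe_mul, ← MulMemClass.coe_mul,
        show δ * (b⁻¹ * δ⁻¹) * b = 1 by field_simp]
      rfl
    exact neg_eq_zero.mp (by rw [← h3]; simpa [π] using h1)
  have hπinj : Function.Injective π := by
    rw [injective_iff_map_eq_zero]
    rintro ⟨a, b⟩ h
    obtain ⟨rfl, rfl⟩ := hPnd a b fun x _ => by rw [h, map_zero, LinearMap.zero_apply]
    rfl
  have hPT : ∀ x ∈ P, T x ∈ P := by
    rintro _ ⟨⟨a, b⟩, rfl⟩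
    let half : A := algebraMap F A (2⁻¹)
    refine ⟨(half * (s * a + δ * b), half * (a + s * b)), ?_⟩
    show ((half * (s * a + δ * b) : A) : End F U) w + ((half * (a + s * b) : A) : End F U) (X w) =
      T ((a : End F U) w + (b : End F U) (X w))
    have hhalf : ∀ x, (half : End F U) x = (2⁻¹ : F) • x := fun x => rfl
    have hT2 : ∀ x, T x = (2⁻¹ : F) • (S x + X x) := fun x => by
      simp only [S, X, LinearMap.add_apply, LinearMap.sub_apply]
      rw [add_add_sub_cancel, ← two_smul F, inv_smul_smul₀ h2]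
    simp only [MulMemClass.coe_mul, AddMemClass.coe_add, Module.End.mul_apply, LinearMap.add_apply,
      hhalf, hT2, map_add, ← smul_add, hδ, haX, s]
    congr 1
    abel
  let P' := B.orthogonal P
  have hrefl : B.IsRefl := fun x y h => by rw [hsym]; exact h
  have hPndR : (B.restrict P).Nondegenerate := by
    have h : ∀ x : P, (∀ y : P, B x y = 0) → x = 0 := by
      rintro ⟨_, ⟨a, b⟩, rfl⟩ hx
      obtain ⟨rfl, rfl⟩ := hPnd a b fun y hy => hx ⟨y, hy⟩
      exact Subtype.ext (map_zero π)
    exact ⟨h, fun x hx => h x fun y => by rw [hsym]; exact hx y⟩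
  have hPc : IsCompl P P' := LinearMap.BilinForm.isCompl_orthogonal_of_restrict_nondegenerate hrefl hPndR
  have hP0 : P ≠ ⊥ := fun h => by
    have hmem : π (1, 0) ∈ P := ⟨_, rfl⟩
    rw [h, Submodule.mem_bot] at hmem
    exact one_ne_zero (congrArg Prod.fst (hπinj (hmem.trans (map_zero π).symm)))
  by_cases hPtop : P = ⊤
  swap
  · -- the reflection in the decomposition
    let e := Submodule.prodEquivOfIsCompl P P' hPc
    let r : U ≃ₗ[F] U := (e.symm.trans ((LinearEquiv.neg F).prodCongr (LinearEquiv.refl F P'))).trans e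
    have hr : ∀ (a : P) (b : P'), r ((a : U) + b) = -(a : U) + b := by
      intro a b
      show e (((LinearEquiv.neg F).prodCongr (LinearEquiv.refl F P')) (e.symm (e (a, b)))) = _
      rw [e.symm_apply_apply]; rfl
    have hall : ∀ z : U, ∃ (a : P) (b : P'), z = a + b := fun z =>
      ⟨(e.symm z).1, (e.symm z).2, (e.apply_symm_apply z).symm⟩
    have hperp : ∀ (a : P) (b : P'), B (a : U) b = 0 := fun a b => b.2 a a.2
    have hperp' : ∀ (a : P) (b : P'), B (b : U) a = 0 := fun a b => by rw [hsym]; exact hperp a b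
    refine ⟨⟨r, fun x y => ?_⟩, iso_ext fun x => ?_, Or.inl (iso_ext fun x => ?_), fun h => ?_, fun h => ?_⟩
    · obtain ⟨a, b, rfl⟩ := hall x
      obtain ⟨a', b', rfl⟩ := hall y
      rw [hr, hr]
      simp only [map_add, map_neg, LinearMap.add_apply, LinearMap.neg_apply, hperp, hperp']
      ring
    · obtain ⟨a, b, rfl⟩ := hall x
      show r (T ((a : U) + b)) = T (r ((a : U) + b))
      have hP'T : T b ∈ P' := fun z hz => by
        show B z (T b) = 0
        have hz' : T' z ∈ P := by
          obtain ⟨m, hm⟩ : ∃ m, M = m + 1 := ⟨M - 1, by have := hM.pos; omega⟩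
          have : T' = T ^ m := by
            calc T' = T' * T ^ M := by rw [hTM, mul_one]
              _ = T ^ m := by rw [hm, pow_succ', ← mul_assoc, hT'T, one_mul]
          rw [this]
          clear hm this
          induction m with
          | zero => exact hz
          | succ m ih => rw [pow_succ', Module.End.mul_apply]; exact hPT _ ih
        rw [← hadjT']
        exact b.2 _ hz'
      rw [hr, map_add T, map_add T, map_neg]
      exact hr ⟨T a, hPT _ a.2⟩ ⟨T b, hP'T⟩
    · obtain ⟨a, b, rfl⟩ := hall x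
      show r (r ((a : U) + b)) = _
      rw [hr, ← Submodule.coe_neg, hr, Submodule.coe_neg, neg_neg, one_app]
    · obtain ⟨a, ha, ha0⟩ := P.exists_mem_ne_zero_of_ne_bot hP0
      have h1 : r a = a := congrArg (fun z : Iso B => z.1 a) h
      rw [show a = ((⟨a, ha⟩ : P) : U) + ((0 : P') : U) by simp, hr] at h1
      simp only [Submodule.coe_zero, add_zero] at h1
      have h3 : (2 : F) • a = 0 := by rw [two_smul]; exact add_eq_zero_iff_eq_neg.mpr h1.symm
      exact ha0 ((smul_eq_zero.mp h3).resolve_left h2)
    · refine hPtop (eq_top_of_isCompl_bot ((?_ : P' = ⊥) ▸ hPc))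
      rw [Submodule.eq_bot_iff]
      intro b hb
      have h1 : r b = -b := congrArg (fun z : Iso B => z.1 b) h
      rw [show b = ((0 : P) : U) + ((⟨b, hb⟩ : P') : U) by simp, hr] at h1
      simp only [Submodule.coe_zero, neg_zero, zero_add] at h1
      have h3 : (2 : F) • b = 0 := by rw [two_smul]; exact add_eq_zero_iff_eq_neg.mpr h1
      exact (smul_eq_zero.mp h3).resolve_left h2
  -- dimension two over the field
  have hπbij : Function.Bijective π := ⟨hπinj, LinearMap.range_eq_top.mp hPtop⟩
  let πA : (A × A) ≃ₗ[A] U := LinearEquiv.ofBijective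
    { toFun := π
      map_add' := π.map_add
      map_smul' := fun c p => by
        show ((c * p.1 : A) : End F U) w + ((c * p.2 : A) : End F U) (X w) =
          (c : End F U) ((p.1 : End F U) w + (p.2 : End F U) (X w))
        rw [map_add]; rfl } hπbij
  let XA : U →ₗ[A] U :=
    { toFun := X
      map_add' := X.map_add
      map_smul' := fun c x => (haX c x).symm }
  let b := ((Module.Basis.singleton Unit A).prod (Module.Basis.singleton Unit A)).map πA
  have hb0 : b (Sum.inl ()) = w := by simp [b, πA, π]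
  have hb1 : b (Sum.inr ()) = X w := by simp [b, πA, π]
  let e2 : Unit ⊕ Unit ≃ Fin 2 := (Equiv.sumCongr (Equiv.equivPUnit (Fin 1)).symm
    (Equiv.equivPUnit (Fin 1)).symm).trans finSumFinEquiv
  let b2 := b.reindex e2
  have hb20 : b2 0 = w := by rw [show (0 : Fin 2) = e2 (Sum.inl ()) from rfl]; simp [b2, hb0]
  have hb21 : b2 1 = X w := by rw [show (1 : Fin 2) = e2 (Sum.inr ()) from rfl]; simp [b2, hb1]
  have hdetA : LinearMap.det XA = -δ := by
    rw [← LinearMap.det_toMatrix b2, Matrix.det_fin_two]
    have h0 : b2.repr (XA (b2 0)) = Finsupp.single 1 1 := by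
      rw [hb20, show XA w = X w from rfl, ← hb21, Module.Basis.repr_self]
    have h1 : b2.repr (XA (b2 1)) = Finsupp.single 0 δ := by
      rw [hb21, show XA (X w) = X (X w) from rfl, ← hδ, show (δ : End F U) w = δ • w from rfl, ← hb20,
        map_smul, Module.Basis.repr_self, Finsupp.smul_single, smul_eq_mul, mul_one]
    simp [LinearMap.toMatrix_apply, h0, h1]
  have hdetF : LinearMap.det X = Algebra.norm F (-δ) := by
    rw [← hdetA, ← LinearMap.det_restrictScalars]
    rfl
  obtain ⟨w0, hw0⟩ : IsSquare (-δ) := by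
    have hne : Algebra.norm F (-δ) ≠ 0 := Algebra.norm_ne_zero_iff.mpr (neg_ne_zero.mpr hδ0)
    have hchar : ringChar F ≠ 2 := fun h => h2 (by
      haveI : CharP F 2 := h ▸ ringChar.charP F
      exact CharTwo.two_eq_zero)
    have hcharA : ringChar A ≠ 2 := by
      rw [← Algebra.ringChar_eq F A]; exact hchar
    rw [FiniteField.isSquare_iff hcharA (neg_ne_zero.mpr hδ0)]
    have h1 := congrArg (algebraMap F A) ((FiniteField.isSquare_iff hchar hne).mp (hdetF ▸ hsq))
    rw [map_pow, map_one, FiniteField.algebraMap_norm_eq_pow, ← pow_mul, Nat.card_eq_fintype_card,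
      Nat.card_eq_fintype_card] at h1
    have hdvd : Fintype.card F - 1 ∣ Fintype.card A - 1 := by
      rw [Module.card_eq_pow_finrank (K := F) (V := A)]
      exact Nat.sub_one_dvd_pow_sub_one _ _
    have hF' : Fintype.card F - 1 = 2 * (Fintype.card F / 2) := by
      have := FiniteField.odd_card_of_char_ne_two hchar
      omega
    have hA' : Fintype.card A / 2 = (Fintype.card A - 1) / 2 := by
      have := FiniteField.odd_card_of_char_ne_two hcharA
      omega
    obtain ⟨d, hd⟩ := hdvd
    rw [hA', hd, hF', mul_assoc, Nat.mul_div_cancel_left _ two_pos]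
    have hF0 : 0 < Fintype.card F - 1 := by have := Fintype.one_lt_card (α := F); omega
    rw [hd, Nat.mul_div_cancel_left _ hF0] at h1
    rwa [mul_comm] at h1
  have hw00 : w0 ≠ 0 := fun h => hδ0 (neg_eq_zero.mp (by rw [hw0, h, mul_zero]))
  let Y : End F U := (↑(w0⁻¹) : End F U) * X
  have hYY : ∀ x, Y (Y x) = -x := by
    intro x
    show (↑(w0⁻¹) : End F U) (X ((↑(w0⁻¹) : End F U) (X x))) = -x
    rw [← haX, ← hδ, ← Module.End.mul_apply, ← Module.End.mul_apply, ← MulMemClass.coe_mul,
      ← MulMemClass.coe_mul, show w0⁻¹ * w0⁻¹ * δ = -1 by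
        rw [show δ = -(w0 * w0) by rw [← hw0, neg_neg]]; field_simp]
    rfl
  let YE : U ≃ₗ[F] U := LinearEquiv.ofLinearMap Y (-Y)
    (LinearMap.ext fun x => by simp [hYY]) (LinearMap.ext fun x => by simp [hYY])
  refine ⟨⟨YE, fun x y => ?_⟩, iso_ext fun x => ?_, Or.inr (iso_ext hYY), fun h => ?_, fun h => ?_⟩
  · show B ((↑(w0⁻¹) : End F U) (X x)) (Y y) = B x y
    rw [hself, hXanti, ← haX, show (↑(w0⁻¹) : End F U) (X (Y y)) = Y (Y y) from rfl, hYY, map_neg, neg_neg]
  · exact LinearMap.congr_fun ((hAT w0⁻¹).mul_left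
      ((Commute.refl T).sub_left (show Commute T' T from hT'T.trans hTT'.symm))).eq x
  · obtain ⟨x, hx⟩ := exists_ne (0 : U)
    have h1 : ∀ x, Y x = x := fun x => congrArg (fun z : Iso B => z.1 x) h
    have h3 : (2 : F) • x = 0 := by
      rw [two_smul]
      exact add_eq_zero_iff_eq_neg.mpr (by rw [← hYY, h1, h1])
    exact hx ((smul_eq_zero.mp h3).resolve_left h2)
  · obtain ⟨x, hx⟩ := exists_ne (0 : U)
    have h1 : ∀ x, Y x = -x := fun x => congrArg (fun z : Iso B => z.1 x) h
    have h3 : (2 : F) • x = 0 := by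
      rw [two_smul]
      have := hYY x
      rw [h1, h1, neg_neg] at this
      exact add_eq_zero_iff_eq_neg.mpr this
    exact hx ((smul_eq_zero.mp h3).resolve_left h2)

end Cfsg.Agent.Spectra36.PG
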