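import Mathlib
import Cfsg.Agent.Spectra36.PG.Core
import Cfsg.Agent.Lib.UnitaryOrthogonal.Standard
import Cfsg.Agent.KnownSimple58.SpElements
import Cfsg.Agent.Classical10.SpInvolTwo.Forms
import Cfsg.Agent.Forms59.Normal

/-!
The standard symplectic and odd orthogonal spaces, and how sums embed in them.
-/

set_option autoImplicit false

namespace Cfsg.Agent.Spectra36.PG

open Module (finrank)
open LinearMap (BilinForm)
open Cfsg.Agent

universe u v

variable {F : Type u} [Field F]

/-- The polar form of the standard odd-dimensional quadratic form. -/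
noncomputable def oB (j : ℕ) (F : Type u) [Field F] : BilinForm F (Unit ⊕ (Fin j ⊕ Fin j) → F) :=
  QuadraticMap.polarBilin (UnitaryOrthogonal.qOdd j F)

theorem oB_symm (j : ℕ) (x y : Unit ⊕ (Fin j ⊕ Fin j) → F) : oB j F y x = oB j F x y :=
  QuadraticMap.polar_comm _ _ _

theorem polarND_qOdd (h2 : (2 : F) ≠ 0) (j : ℕ) : UnitaryOrthogonal.PolarND (UnitaryOrthogonal.qOdd j F) :=
  UnitaryOrthogonal.PolarND.congr (UnitaryOrthogonal.qOddIso j F).symm
    (UnitaryOrthogonal.PolarND.hypSum (UnitaryOrthogonal.polarND_sqForm h2) _)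

theorem oB_nd (h2 : (2 : F) ≠ 0) (j : ℕ) (x : Unit ⊕ (Fin j ⊕ Fin j) → F)
    (h : ∀ y, oB j F x y = 0) : x = 0 :=
  polarND_qOdd h2 j x h

theorem finrank_oB (j : ℕ) : finrank F (Unit ⊕ (Fin j ⊕ Fin j) → F) = 2 * j + 1 := by
  rw [Module.finrank_fintype_fun_eq_card]; simp; ring

theorem finrank_vec (j : ℕ) : finrank F (Symplectic.Vec j F) = 2 * j := by
  rw [Module.finrank_fintype_fun_eq_card]; simp; ring

/-- The isometries of a quadratic form are the isometries of its polar form. -/
noncomputable def orthIso {V : Type v} [AddCommGroup V] [Module F V] (Q : QuadraticForm F V) (h2 : (2 : F) ≠ 0) :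
    UnitaryOrthogonal.orth Q ≃* Iso (QuadraticMap.polarBilin Q) where
  toFun g := ⟨g.1, fun x y => by
    show QuadraticMap.polar Q (g.1 x) (g.1 y) = QuadraticMap.polar Q x y
    simp only [QuadraticMap.polar, ← map_add, show ∀ z, Q (g.1 z) = Q z from g.2]⟩
  invFun g := ⟨g.1, fun x => mul_left_cancel₀ h2 (by
    rw [← UnitaryOrthogonal.polar_self_eq, ← UnitaryOrthogonal.polar_self_eq]
    exact g.2 x x)⟩
  left_inv _ := rfl
  right_inv _ := rfl
  map_mul' _ _ := rfl

/-- The isometry group of the standard odd-dimensional form as a group of matrices. -/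
noncomputable def oEquiv (n : ℕ) (h2 : (2 : F) ≠ 0) :
    Iso (oB n F) ≃* Cfsg.isometryGroup F (Cfsg.quadFormOdd n F) :=
  ((UnitaryOrthogonal.isometryGroupEquiv (UnitaryOrthogonal.qOdd n F)
    (UnitaryOrthogonal.qOdd_apply n)).trans (orthIso _ h2)).symm

theorem oEquiv_mulVec (n : ℕ) (h2 : (2 : F) ≠ 0) (g : Iso (oB n F)) (x : Unit ⊕ (Fin n ⊕ Fin n) → F) :
    Matrix.mulVec (((oEquiv n h2 g).1 : Matrix.GeneralLinearGroup _ F) : Matrix _ _ F) x = g.1 x := by
  have h := (oEquiv n h2).symm_apply_apply g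
  conv_rhs => rw [← h]
  rfl

theorem sympForm_iso (n : ℕ) (g : Iso (Forms.sympBilin n F)) (u v : Symplectic.Vec n F) :
    Cfsg.sympForm n F (g.1.toLinearMap u) (g.1.toLinearMap v) = Cfsg.sympForm n F u v := by
  rw [← Forms.sympBilin_apply, ← Forms.sympBilin_apply]; exact g.2 u v

/-- The matrix of an isometry of the standard symplectic form. -/
noncomputable def spHom (n : ℕ) (F : Type u) [Field F] : Iso (Forms.sympBilin n F) →* Symplectic.Sp n F where
  toFun g := Forms.spOfLinearMap g.1.toLinearMap (sympForm_iso n g)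
  map_one' := Symplectic.eq_of_smul_eq fun v =>
    (Forms.spOfLinearMap_smul _ (sympForm_iso n 1) v).trans (one_smul _ v).symm
  map_mul' g h := Symplectic.eq_of_smul_eq fun v =>
    ((Forms.spOfLinearMap_smul _ (sympForm_iso n (g * h)) v).trans
      ((congrArg g.1.toLinearMap (Forms.spOfLinearMap_smul _ (sympForm_iso n h) v)).symm.trans
        (Forms.spOfLinearMap_smul _ (sympForm_iso n g) _).symm)).trans (mul_smul _ _ v).symm

theorem spHom_smul (n : ℕ) (g : Iso (Forms.sympBilin n F)) (x : Symplectic.Vec n F) :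
    spHom n F g • x = g.1 x :=
  Forms.spOfLinearMap_smul g.1.toLinearMap (sympForm_iso n g) x

theorem spHom_bijective (n : ℕ) : Function.Bijective (spHom n F) := by
  refine ⟨fun g h hgh => iso_ext fun x => ?_, fun s => ?_⟩
  · rw [← spHom_smul, hgh, spHom_smul]
  · refine ⟨⟨LinearEquiv.ofBijective
      { toFun := fun x => s • x
        map_add' := fun x y => smul_add s x y
        map_smul' := fun c x => smul_comm s c x } (MulAction.bijective s), fun u v => ?_⟩, ?_⟩
    · show Forms.sympBilin n F (s • u) (s • v) = _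
      rw [Forms.sympBilin_apply, Forms.sympBilin_apply]
      exact (Symplectic.mem_iff_form _).mp s.2 u v
    · exact Symplectic.eq_of_smul_eq fun v => spHom_smul n _ v

/-- The isometry group of the standard symplectic form as a group of matrices. -/
noncomputable def spEquiv (n : ℕ) (F : Type u) [Field F] : Iso (Forms.sympBilin n F) ≃* Symplectic.Sp n F :=
  MulEquiv.ofBijective (spHom n F) (spHom_bijective n)

theorem spEquiv_smul (n : ℕ) (g : Iso (Forms.sympBilin n F)) (x : Symplectic.Vec n F) :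
    spEquiv n F g • x = g.1 x :=
  spHom_smul n g x

theorem spEquiv_negI (n : ℕ) : spEquiv n F (negI _) = Symplectic.negOne :=
  Symplectic.eq_of_smul_eq fun v => by rw [spEquiv_smul, Symplectic.negOne_smul]; rfl

variable {U : Type u} [AddCommGroup U] [Module F U] [FiniteDimensional F U]

theorem exists_model_symp {A : BilinForm F U} (halt : ∀ x, A x x = 0)
    (hnd : ∀ x, (∀ y, A x y = 0) → x = 0) :
    ∃ (k : ℕ) (e : Symplectic.Vec k F ≃ₗ[F] U), finrank F U = 2 * k ∧
      ∀ u v, A (e u) (e v) = 1 * Forms.sympBilin k F u v := by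
  obtain ⟨k, j, hk, hji, hj, hB⟩ := Classical10.SpInvolTwo.exists_symplectic_map A ⊤ (fun x _ => halt x)
    (fun x _ h => hnd x fun y => h y trivial)
  rw [finrank_top] at hk
  refine ⟨k, LinearEquiv.ofBijective j ⟨hji, fun x => (hj x).mp trivial⟩, hk, fun u v => ?_⟩
  rw [one_mul, Forms.sympBilin_apply]
  exact hB u v

/-- Isometries of a non-degenerate alternating form have determinant one. -/
theorem det_eq_one_of_alt {A : BilinForm F U} (halt : ∀ x, A x x = 0)
    (hnd : ∀ x, (∀ y, A x y = 0) → x = 0) (g : Iso A) : LinearMap.det (g.1 : U →ₗ[F] U) = 1 := by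
  obtain ⟨k, e, -, he⟩ := exists_model_symp halt hnd
  obtain ⟨h, rfl⟩ := (isoCongr e one_ne_zero he).surjective g
  have h1 : ((isoCongr e one_ne_zero he h).1 : U →ₗ[F] U) = (e : Symplectic.Vec k F →ₗ[F] U).comp
      ((h.1 : Symplectic.Vec k F →ₗ[F] Symplectic.Vec k F).comp (e.symm : U →ₗ[F] Symplectic.Vec k F)) := rfl
  rw [h1, LinearMap.det_conj]
  have h2 : (h.1 : Symplectic.Vec k F →ₗ[F] Symplectic.Vec k F) =
      Matrix.toLin' ((spEquiv k F h).1) := by
    refine LinearMap.ext fun x => ?_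
    rw [Matrix.toLin'_apply]
    exact (spEquiv_smul k h x).symm
  rw [h2, LinearMap.det_toLin']
  exact SymplecticGroup.det_eq_one (spEquiv k F h).2

theorem exists_emb_symp {i j : ℕ} {A : BilinForm F U} (halt : ∀ x, A x x = 0)
    (hnd : ∀ x, (∀ y, A x y = 0) → x = 0) (hU : finrank F U = 2 * i) :
    ∃ (e : (U × Symplectic.Vec j F) ≃ₗ[F] Symplectic.Vec (i + j) F) (c : F), c ≠ 0 ∧
      ∀ p q, Forms.sympBilin (i + j) F (e p) (e q) = c * prodForm A (Forms.sympBilin j F) p q := by
  obtain ⟨k, e, hk, he⟩ := exists_model_symp (A := prodForm A (Forms.sympBilin j F))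
    (fun p => by rw [prodForm_apply, halt, Forms.sympBilin_isAlt.self_eq_zero, add_zero])
    (fun p hp => Prod.ext (hnd _ fun y => by simpa [prodForm_apply] using hp (y, 0))
      (Forms.sympBilin_nondegenerate.1 _ fun y => by simpa [prodForm_apply] using hp (0, y)))
  rw [Module.finrank_prod, hU, finrank_vec] at hk
  obtain rfl : k = i + j := by omega
  exact ⟨e.symm, 1, one_ne_zero, fun p q => by
    rw [one_mul]
    have := he (e.symm p) (e.symm q)
    rw [e.apply_symm_apply, e.apply_symm_apply, one_mul] at this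
    exact this.symm⟩

theorem exists_emb_odd [Finite F] {i j : ℕ} (h2 : (2 : F) ≠ 0) {A : BilinForm F U}
    (hsym : ∀ x y, A y x = A x y)
    (hnd : ∀ x, (∀ y, A x y = 0) → x = 0) (hU : finrank F U = 2 * i) :
    ∃ (e : (U × (Unit ⊕ (Fin j ⊕ Fin j) → F)) ≃ₗ[F] (Unit ⊕ (Fin (i + j) ⊕ Fin (i + j)) → F)) (c : F),
      c ≠ 0 ∧ ∀ p q, oB (i + j) F (e p) (e q) = c * prodForm A (oB j F) p q := by
  let P := prodForm A (oB j F)
  let Q : QuadraticForm F (U × (Unit ⊕ (Fin j ⊕ Fin j) → F)) := ((2 : F)⁻¹ • P).toQuadraticMap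
  have hPsym : ∀ p q, P q p = P p q := fun p q => by
    simp only [P, prodForm_apply, hsym p.1 q.1, oB_symm j p.2 q.2]
  have hQ : ∀ p q, QuadraticMap.polar (⇑Q) p q = P p q := fun p q => by
    simp only [Q, LinearMap.BilinMap.polar_toQuadraticMap, LinearMap.smul_apply, smul_eq_mul]
    rw [hPsym p q, ← two_mul, ← mul_assoc, mul_inv_cancel₀ h2, one_mul]
  have hPnd : ∀ p, (∀ q, P p q = 0) → p = 0 := fun p hp =>
    Prod.ext (hnd _ fun y => by simpa [P, prodForm_apply] using hp (y, 0))
      (oB_nd h2 j _ fun y => by simpa [P, prodForm_apply] using hp (0, y))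
  have hQnd : (QuadraticMap.polarBilin Q).Nondegenerate :=
    ⟨fun p hp => hPnd p fun q => (hQ p q).symm.trans (hp q),
      fun p hp => hPnd p fun q => by rw [← hPsym, ← hQ]; exact hp q⟩
  have hdim : finrank F (U × (Unit ⊕ (Fin j ⊕ Fin j) → F)) = 2 * (i + j) + 1 := by
    rw [Module.finrank_prod, hU, finrank_oB]; ring
  rcases Forms59.exists_normal_form Q hQnd with ⟨k, hk, -⟩ | ⟨k, hk, c, e, hc, he⟩ | ⟨k, hk, -⟩
  · omega
  · obtain rfl : k = i + j := by omega
    let T : ((Fin (i + j) ⊕ Fin (i + j)) ⊕ Fin 1 → F) ≃ₗ[F]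
        (Unit ⊕ (Fin (i + j) ⊕ Fin (i + j)) → F) :=
      { toFun := fun v => Sum.elim (fun _ => v (.inr 0))
          (Sum.elim (fun a => c⁻¹ * v (.inl (.inl a))) fun a => v (.inl (.inr a)))
        invFun := fun w => Sum.elim (Sum.elim (fun a => c * w (.inr (.inl a))) fun a => w (.inr (.inr a)))
          (fun _ => w (.inl ()))
        map_add' := fun v w => by funext x; rcases x with x | x | x <;> simp [mul_add]
        map_smul' := fun a v => by funext x; rcases x with x | x | x <;> simp [mul_left_comm]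
        left_inv := fun v => by
          funext x
          rcases x with (x | x) | x
          · simp [hc]
          · simp
          · fin_cases x; rfl
        right_inv := fun w => by funext x; rcases x with x | x | x <;> simp [hc] }
    refine ⟨e.trans T, c⁻¹, inv_ne_zero hc, fun p q => ?_⟩
    have key : ∀ p, UnitaryOrthogonal.qOdd (i + j) F ((e.trans T) p) = c⁻¹ * Q p := fun p => by
      rw [UnitaryOrthogonal.qOdd_apply, he, Forms59.sumForm, Cfsg.quadFormOdd]
      simp only [LinearEquiv.trans_apply]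
      show e p (.inr 0) ^ 2 + ∑ a, c⁻¹ * e p (.inl (.inl a)) * e p (.inl (.inr a)) = _
      rw [mul_add, Finset.mul_sum, Function.comp_apply, ← mul_assoc, inv_mul_cancel₀ hc]
      simp only [mul_assoc]
      ring
    show QuadraticMap.polar (⇑(UnitaryOrthogonal.qOdd (i + j) F)) _ _ = c⁻¹ * P p q
    rw [← hQ, QuadraticMap.polar, QuadraticMap.polar, ← map_add, key, key, key]
    ring
  · omega

/-- An element of order `p` in each standard symplectic group. -/
theorem exists_unipotent_symp [Fintype F] {p : ℕ} [Fact p.Prime] [CharP F p] (h2 : (2 : F) ≠ 0)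
    {j : ℕ} (hj : 1 ≤ j) : ∃ g : Iso (Forms.sympBilin j F), orderOf g = p := by
  obtain ⟨u₀, c, hu₀, hc⟩ := KS58.SpEl.exists_sp_unipotent (F := F) (b := j) (p := p) h2 (d := 0) (by simp; omega)
  obtain ⟨u, hu⟩ := KS58.exists_orderOf_eq_of_dvd u₀ (hu₀ ▸ dvd_pow_self p (by omega) : p ∣ orderOf u₀)
  exact ⟨(spEquiv j F).symm u, by rw [MulEquiv.orderOf_eq, hu]⟩

/-- An element of order `p` in each standard odd orthogonal group of dimension at least three. -/
theorem exists_unipotent_odd {p : ℕ} [Fact p.Prime] [CharP F p] (h2 : (2 : F) ≠ 0)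
    {j : ℕ} (hj : 1 ≤ j) : ∃ g : Iso (oB j F), orderOf g = p := by
  let Q := UnitaryOrthogonal.qOdd j F
  let x₀ : Unit ⊕ (Fin j ⊕ Fin j) → F := Pi.single (.inr (.inl ⟨0, hj⟩)) 1
  let z₀ : Unit ⊕ (Fin j ⊕ Fin j) → F := Pi.single (.inl ()) 1
  have hx : Q x₀ = 0 := by simp [Q, x₀, UnitaryOrthogonal.qOdd_apply, Cfsg.quadFormOdd, Pi.single_apply]
  have hxz : QuadraticMap.polar Q x₀ z₀ = 0 := by
    simp [Q, x₀, z₀, QuadraticMap.polar, UnitaryOrthogonal.qOdd_apply, Cfsg.quadFormOdd, Pi.single_apply]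
  let g := UnitaryOrthogonal.eich Q x₀ z₀
  have hpow : ∀ k : ℕ, g ^ k = UnitaryOrthogonal.eich Q x₀ ((k : F) • z₀) := by
    intro k
    induction k with
    | zero => rw [pow_zero, Nat.cast_zero, zero_smul, UnitaryOrthogonal.eich_zero]
    | succ k ih =>
      rw [pow_succ, ih, Nat.cast_succ, add_smul, one_smul,
        UnitaryOrthogonal.eich_mul hx (by rw [QuadraticMap.polar_smul_right, hxz, smul_zero]) hxz]
  have hg1 : g ≠ 1 := fun h => by
    have h1 := congrArg (fun w : UnitaryOrthogonal.orth Q => w.1 z₀ (.inr (.inl ⟨0, hj⟩))) h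
    simp [g, UnitaryOrthogonal.eich_apply hx hxz, Q, x₀, z₀, QuadraticMap.polar,
      UnitaryOrthogonal.qOdd_apply, Cfsg.quadFormOdd, Pi.single_apply] at h1
    norm_num at h1
    exact h2 h1
  refine ⟨orthIso Q h2 g, ?_⟩
  refine ((orthIso Q h2).orderOf_eq g).trans ?_
  exact orderOf_eq_prime (by rw [hpow, CharP.cast_eq_zero, zero_smul, UnitaryOrthogonal.eich_zero]) hg1

end Cfsg.Agent.Spectra36.PG
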