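import Mathlib
import Cfsg.Agent.Spectra36.PG.Models
import Cfsg.Agent.Forms59.OmegaTools
import Cfsg.Agent.Forms59.Gram

/-!
The commutator subgroup of the odd orthogonal group, seen inside the isometry group of the polar form.
-/

set_option autoImplicit false

namespace Cfsg.Agent.Spectra36.PG

open Module (finrank)
open LinearMap (BilinForm)
open Cfsg.Agent

universe u v

variable {F : Type u} [Field F] [Fintype F]

theorem qOdd_nondeg (h2 : (2 : F) ≠ 0) (n : ℕ) :
    (QuadraticMap.polarBilin (UnitaryOrthogonal.qOdd n F)).Nondegenerate :=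
  ⟨oB_nd h2 n, fun y hy => oB_nd h2 n y fun x => (oB_symm n x y).trans (hy x)⟩

/-- The matrix group of the standard odd quadratic form. -/
noncomputable def mEquiv (n : ℕ) (h2 : (2 : F) ≠ 0) :
    Iso (oB n F) ≃* Cfsg.isometryGroup F ⇑(UnitaryOrthogonal.qOdd n F) :=
  ((UnitaryOrthogonal.isometryGroupEquiv (UnitaryOrthogonal.qOdd n F) fun _ => rfl).trans
    (orthIso _ h2)).symm

theorem mEquiv_act (n : ℕ) (h2 : (2 : F) ≠ 0) (g : Iso (oB n F)) (x : Unit ⊕ (Fin n ⊕ Fin n) → F) :
    Reflections.act (mEquiv n h2 g) x = g.1 x := by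
  have h := (mEquiv n h2).symm_apply_apply g
  conv_rhs => rw [← h]
  rfl

theorem mem_commutator_iff (n : ℕ) (h2 : (2 : F) ≠ 0) (g : Iso (oB n F)) :
    g ∈ commutator (Iso (oB n F)) ↔
      mEquiv n h2 g ∈ Cfsg.Omega F ⇑(UnitaryOrthogonal.qOdd n F) := by
  have hmap : (commutator (Iso (oB n F))).map (mEquiv n h2).toMonoidHom =
      Cfsg.Omega F ⇑(UnitaryOrthogonal.qOdd n F) := by
    rw [commutator_def, Subgroup.map_commutator, Subgroup.map_top_of_surjective _ (mEquiv n h2).surjective]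
    rfl
  rw [← hmap]
  exact (Subgroup.mem_map_iff_mem (f := (mEquiv n h2).toMonoidHom) (mEquiv n h2).injective).symm

theorem mem_commutator_of_odd (n : ℕ) (hn : 1 ≤ n) (h2 : (2 : F) ≠ 0) (g : Iso (oB n F))
    (hg : Odd (orderOf g)) : g ∈ commutator (Iso (oB n F)) := by
  obtain ⟨k, hk⟩ := hg
  have h : g = g ^ (k + 1) * g ^ (k + 1) := by
    rw [← pow_add, show k + 1 + (k + 1) = (2 * k + 1) + 1 by ring, pow_succ, ← hk, pow_orderOf_eq_one,
      one_mul]
  rw [mem_commutator_iff n h2, h, map_mul]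
  exact Forms59.sq_mem_omega (qOdd_nondeg h2 n) (Or.inr (by simp; omega)) _

/-- The determinant. -/
noncomputable def detI {V : Type v} [AddCommGroup V] [Module F V] (B : BilinForm F V) : Iso B →* Fˣ :=
  LinearEquiv.det.comp (Iso B).subtype

theorem detI_val {V : Type v} [AddCommGroup V] [Module F V] (B : BilinForm F V) (g : Iso B) :
    ((detI B g : Fˣ) : F) = LinearMap.det (g.1 : V →ₗ[F] V) :=
  LinearEquiv.coe_det g.1

theorem det_eq_one_of_mem_commutator {V : Type v} [AddCommGroup V] [Module F V] {B : BilinForm F V}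
    {g : Iso B} (hg : g ∈ commutator (Iso B)) : LinearMap.det (g.1 : V →ₗ[F] V) = 1 := by
  have h := Abelianization.commutator_subset_ker (detI B) hg
  rw [MonoidHom.mem_ker] at h
  rw [← detI_val, h]; rfl

/-- The reflection in an anisotropic vector. -/
noncomputable def rI (n : ℕ) (h2 : (2 : F) ≠ 0) (a : Unit ⊕ (Fin n ⊕ Fin n) → F) : Iso (oB n F) :=
  orthIso _ h2 (UnitaryOrthogonal.rf (UnitaryOrthogonal.qOdd n F) a)

theorem rI_app (n : ℕ) (h2 : (2 : F) ≠ 0) (a x : Unit ⊕ (Fin n ⊕ Fin n) → F) :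
    (rI n h2 a).1 x = x - ((UnitaryOrthogonal.qOdd n F a)⁻¹ * oB n F a x) • a := rfl

theorem rI_mul_self (n : ℕ) (h2 : (2 : F) ≠ 0) (a : Unit ⊕ (Fin n ⊕ Fin n) → F) :
    rI n h2 a * rI n h2 a = 1 :=
  (map_mul (orthIso _ h2) _ _).symm.trans
    ((congrArg (orthIso _ h2) (UnitaryOrthogonal.rf_mul_self a)).trans (map_one _))

theorem mEquiv_rI (n : ℕ) (h2 : (2 : F) ≠ 0) {a : Unit ⊕ (Fin n ⊕ Fin n) → F}
    (ha : UnitaryOrthogonal.qOdd n F a ≠ 0) :
    mEquiv n h2 (rI n h2 a) = Reflections.refl (UnitaryOrthogonal.qOdd n F) a := by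
  refine Reflections.isom_ext fun x => ?_
  rw [mEquiv_act, Reflections.act_refl ha]
  rfl

theorem list_mem_commutator_iff (n : ℕ) (hn : 1 ≤ n) (h2 : (2 : F) ≠ 0)
    (vs : List (Unit ⊕ (Fin n ⊕ Fin n) → F)) (hvs : ∀ v ∈ vs, UnitaryOrthogonal.qOdd n F v ≠ 0) :
    (vs.map (rI n h2)).prod ∈ commutator (Iso (oB n F)) ↔
      Even vs.length ∧ IsSquare (vs.map fun v => UnitaryOrthogonal.qOdd n F v).prod := by
  classical
  have h : mEquiv n h2 (vs.map (rI n h2)).prod = Forms59.reflProd (UnitaryOrthogonal.qOdd n F) vs := by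
    rw [map_list_prod, List.map_map, Forms59.reflProd]
    congr 1
    exact List.map_congr_left fun v hv => mEquiv_rI n h2 (hvs v hv)
  rw [mem_commutator_iff n h2, h]
  exact Forms59.reflProd_mem_omega_iff h2 (qOdd_nondeg h2 n) (by simp; omega) vs hvs

theorem exists_list (n : ℕ) (h2 : (2 : F) ≠ 0) (g : Iso (oB n F)) :
    ∃ vs : List (Unit ⊕ (Fin n ⊕ Fin n) → F),
      (∀ v ∈ vs, UnitaryOrthogonal.qOdd n F v ≠ 0) ∧ g = (vs.map (rI n h2)).prod := by
  classical
  obtain ⟨vs, hvs, hg⟩ := Forms59.exists_reflProd (qOdd_nondeg h2 n)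
    (Or.inl fun h => h2 (by
      have := FiniteField.cast_card_eq_zero F
      rw [h] at this
      exact_mod_cast this)) (mEquiv n h2 g)
  refine ⟨vs, hvs, (mEquiv n h2).injective ?_⟩
  rw [hg, map_list_prod, List.map_map, Forms59.reflProd]
  congr 1
  exact (List.map_congr_left fun v hv => mEquiv_rI n h2 (hvs v hv)).symm

theorem det_mEquiv (n : ℕ) (h2 : (2 : F) ≠ 0) (g : Iso (oB n F)) :
    LinearMap.det (g.1 : (Unit ⊕ (Fin n ⊕ Fin n) → F) →ₗ[F] _) =
      (Reflections.mat (mEquiv n h2 g)).det := by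
  rw [← LinearMap.det_toLin']
  congr 1
  refine LinearMap.ext fun x => ?_
  rw [Matrix.toLin'_apply]
  exact (mEquiv_act n h2 g x).symm

theorem det_list (n : ℕ) (h2 : (2 : F) ≠ 0)
    (vs : List (Unit ⊕ (Fin n ⊕ Fin n) → F)) (hvs : ∀ v ∈ vs, UnitaryOrthogonal.qOdd n F v ≠ 0) :
    LinearMap.det (((vs.map (rI n h2)).prod).1 : (Unit ⊕ (Fin n ⊕ Fin n) → F) →ₗ[F] _) =
      (-1) ^ vs.length := by
  rw [← detI_val, map_list_prod, List.map_map]
  induction vs with
  | nil => simp
  | cons v vs ih =>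
    rw [List.map_cons, List.prod_cons, Units.val_mul, ih fun w hw => hvs w (List.mem_cons_of_mem v hw),
      List.length_cons, pow_succ']
    congr 1
    show ((detI (oB n F) (rI n h2 v) : Fˣ) : F) = -1
    rw [detI_val, det_mEquiv n h2, ← Reflections.detHom_val, mEquiv_rI n h2 (hvs v List.mem_cons_self),
      Reflections.detHom_refl (hvs v List.mem_cons_self)]
    rfl

theorem mem_or_mul_mem (n : ℕ) (hn : 1 ≤ n) (h2 : (2 : F) ≠ 0) (g : Iso (oB n F))
    (hg : LinearMap.det (g.1 : (Unit ⊕ (Fin n ⊕ Fin n) → F) →ₗ[F] _) = 1)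
    {a b : Unit ⊕ (Fin n ⊕ Fin n) → F}
    (hab : ¬ IsSquare (UnitaryOrthogonal.qOdd n F a * UnitaryOrthogonal.qOdd n F b)) :
    g ∈ commutator (Iso (oB n F)) ∨ g * (rI n h2 a * rI n h2 b) ∈ commutator (Iso (oB n F)) := by
  classical
  obtain ⟨vs, hvs, rfl⟩ := exists_list n h2 g
  rw [det_list n h2 vs hvs, neg_one_pow_eq_one_iff_even (fun h => h2 (by linear_combination -h))] at hg
  have hchar : ringChar F ≠ 2 := fun h => h2 (by
    haveI : CharP F 2 := h ▸ ringChar.charP F
    exact CharTwo.two_eq_zero)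
  have ha : UnitaryOrthogonal.qOdd n F a ≠ 0 := fun h => hab (by rw [h, zero_mul]; exact IsSquare.zero)
  have hb : UnitaryOrthogonal.qOdd n F b ≠ 0 := fun h => hab (by rw [h, mul_zero]; exact IsSquare.zero)
  have hvs' : ∀ v ∈ vs ++ [a, b], UnitaryOrthogonal.qOdd n F v ≠ 0 := by
    intro v hv
    simp only [List.mem_append, List.mem_cons, List.not_mem_nil, or_false] at hv
    rcases hv with hv | rfl | rfl
    exacts [hvs v hv, ha, hb]
  have hprod : (vs.map (rI n h2)).prod * (rI n h2 a * rI n h2 b) = ((vs ++ [a, b]).map (rI n h2)).prod := by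
    simp [List.map_append, List.prod_append]
  rw [hprod, list_mem_commutator_iff n hn h2 vs hvs, list_mem_commutator_iff n hn h2 _ hvs']
  by_cases hs : IsSquare (vs.map fun v => UnitaryOrthogonal.qOdd n F v).prod
  · exact Or.inl ⟨hg, hs⟩
  · refine Or.inr ⟨by simpa [Nat.even_add] using hg, ?_⟩
    rw [List.map_append, List.prod_append]
    simp only [List.map_cons, List.map_nil, List.prod_cons, List.prod_nil, mul_one]
    rw [← quadraticChar_one_iff_isSquare (mul_ne_zero (fun h => hs (by rw [h]; exact IsSquare.zero)) (mul_ne_zero ha hb)),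
      map_mul, quadraticChar_neg_one_iff_not_isSquare.mpr hs, quadraticChar_neg_one_iff_not_isSquare.mpr hab]
    norm_num

theorem mul_mem_of_not_mem (n : ℕ) (hn : 1 ≤ n) (h2 : (2 : F) ≠ 0) {g h : Iso (oB n F)}
    (hg : LinearMap.det (g.1 : (Unit ⊕ (Fin n ⊕ Fin n) → F) →ₗ[F] _) = 1)
    (hh : LinearMap.det (h.1 : (Unit ⊕ (Fin n ⊕ Fin n) → F) →ₗ[F] _) = 1)
    (hg' : g ∉ commutator (Iso (oB n F))) (hh' : h ∉ commutator (Iso (oB n F))) :
    g * h ∈ commutator (Iso (oB n F)) := by
  classical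
  obtain ⟨vs, hvs, rfl⟩ := exists_list n h2 g
  obtain ⟨ws, hws, rfl⟩ := exists_list n h2 h
  have hne : (-1 : F) ≠ 1 := fun h => h2 (by linear_combination -h)
  rw [det_list n h2 vs hvs, neg_one_pow_eq_one_iff_even hne] at hg
  rw [det_list n h2 ws hws, neg_one_pow_eq_one_iff_even hne] at hh
  rw [list_mem_commutator_iff n hn h2 vs hvs, not_and] at hg'
  rw [list_mem_commutator_iff n hn h2 ws hws, not_and] at hh'
  have hg'' := hg' hg
  have hh'' := hh' hh
  rw [← List.prod_append, ← List.map_append, list_mem_commutator_iff n hn h2 _ (by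
    intro v hv
    rcases List.mem_append.mp hv with hv | hv
    exacts [hvs v hv, hws v hv]), List.length_append]
  refine ⟨hg.add hh, ?_⟩
  rw [List.map_append, List.prod_append,
    ← quadraticChar_one_iff_isSquare (mul_ne_zero (fun h => hg'' (by rw [h]; exact IsSquare.zero))
      (fun h => hh'' (by rw [h]; exact IsSquare.zero))),
    map_mul, quadraticChar_neg_one_iff_not_isSquare.mpr hg'', quadraticChar_neg_one_iff_not_isSquare.mpr hh'']
  norm_num

theorem isSquare_det_twist {U : Type u} [AddCommGroup U] [Module F U] [FiniteDimensional F U]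
    {A C : BilinForm F U} (halt : ∀ x, A x x = 0) (hnd : ∀ x, (∀ y, A x y = 0) → x = 0)
    (X : U →ₗ[F] U) (hAX : ∀ x y, A x y = C (X x) y)
    {κ : Type*} [Fintype κ] [DecidableEq κ] (b : Module.Basis κ F U)
    (hC : IsSquare (LinearMap.BilinForm.toMatrix b C).det) : IsSquare (LinearMap.det X) := by
  classical
  obtain ⟨k, e, -, he⟩ := exists_model_symp halt hnd
  let bA := (Pi.basisFun F (Fin k ⊕ Fin k)).map e
  have hAJ : LinearMap.BilinForm.toMatrix bA A = Matrix.J (Fin k) F := by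
    ext i j
    rw [LinearMap.BilinForm.toMatrix_apply]
    simp only [bA, Module.Basis.map_apply, Pi.basisFun_apply]
    rw [he, one_mul, Forms.sympBilin, Matrix.toBilin'_single]
  have hAC : LinearMap.BilinForm.toMatrix bA A =
      (LinearMap.toMatrix bA bA X).transpose * LinearMap.BilinForm.toMatrix bA C := by
    rw [← LinearMap.BilinForm.toMatrix_compLeft]
    congr 1
    exact LinearMap.ext₂ fun x y => hAX x y
  have hC' : IsSquare (LinearMap.BilinForm.toMatrix bA C).det := by
    have e' : Fin k ⊕ Fin k ≃ κ := bA.indexEquiv b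
    have h : LinearMap.BilinForm.toMatrix (b.reindex e'.symm) C =
        (LinearMap.BilinForm.toMatrix b C).submatrix e' e' := by
      ext i j; simp [LinearMap.BilinForm.toMatrix_apply]
    rw [← LinearMap.BilinForm.toMatrix_mul_basis_toMatrix (b.reindex e'.symm) bA, h, Matrix.det_mul,
      Matrix.det_mul, Matrix.det_transpose, Matrix.det_submatrix_equiv_self, mul_right_comm]
    exact (IsSquare.mul_self _).mul hC
  have hdet := congrArg Matrix.det hAC
  rw [hAJ, Matrix.det_mul, Matrix.det_transpose, LinearMap.det_toMatrix,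
    SymplecticGroup.det_eq_one (SymplecticGroup.J_mem (Fin k) F)] at hdet
  obtain ⟨r, hr⟩ := hC'
  rw [hr] at hdet
  exact ⟨r⁻¹, by
    have hr0 : r ≠ 0 := fun h => by rw [h, mul_zero, mul_zero] at hdet; exact one_ne_zero hdet
    field_simp
    linear_combination -hdet⟩

/-- If `-1` on an even non-degenerate subspace lies in the commutator subgroup, its discriminant is a square. -/
theorem isSquare_disc_of_mem (n : ℕ) (hn : 1 ≤ n) (h2 : (2 : F) ≠ 0)
    {U Z : Submodule F (Unit ⊕ (Fin n ⊕ Fin n) → F)} (e : (U × Z) ≃ₗ[F] (Unit ⊕ (Fin n ⊕ Fin n) → F))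
    (he : ∀ p q, oB n F (e p) (e q) = 1 * prodForm ((oB n F).restrict U) ((oB n F).restrict Z) p q)
    (he0 : ∀ u z, e (u, z) = (u : Unit ⊕ (Fin n ⊕ Fin n) → F) + z)
    (hnd : ∀ x : U, (∀ y : U, oB n F x y = 0) → x = 0)
    (hU : Even (finrank F U))
    (hmem : emb e one_ne_zero he (negI _, 1) ∈ commutator (Iso (oB n F))) :
    ∃ (k : ℕ) (b : Module.Basis (Fin k) F U),
      IsSquare (LinearMap.BilinForm.toMatrix b ((oB n F).restrict U)).det := by
  classical
  letI : Invertible (2 : F) := invertibleOfNonzero h2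
  obtain ⟨b, hb⟩ := LinearMap.BilinForm.exists_orthogonal_basis (B := (oB n F).restrict U)
    ⟨fun x y => (oB_symm n _ _).symm⟩
  refine ⟨_, b, ?_⟩
  let Q := UnitaryOrthogonal.qOdd n F
  have hoff : ∀ i j, i ≠ j → oB n F (b i : Unit ⊕ (Fin n ⊕ Fin n) → F) (b j) = 0 := fun i j h => hb h
  have hself : ∀ x, oB n F x x = 2 * Q x := fun x => UnitaryOrthogonal.polar_self_eq x
  have hQb : ∀ i, Q (b i) ≠ 0 := by
    intro i hi
    refine b.ne_zero i (hnd (b i) fun y => ?_)
    have h0 : ((oB n F).restrict U) (b i) = 0 := b.ext fun j => by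
      rcases eq_or_ne i j with rfl | h
      · show oB n F (b i : Unit ⊕ (Fin n ⊕ Fin n) → F) (b i) = 0
        rw [hself, hi, mul_zero]
      · exact hoff i j h
    exact LinearMap.congr_fun h0 y
  let vs := (List.finRange (finrank F U)).map fun i => (b i : Unit ⊕ (Fin n ⊕ Fin n) → F)
  have hvs : ∀ v ∈ vs, Q v ≠ 0 := by
    intro v hv
    obtain ⟨i, -, rfl⟩ := List.mem_map.mp hv
    exact hQb i
  -- the product of the reflections
  have hact : ∀ (l : List (Fin (finrank F U))), l.Nodup →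
      (∀ i, ((l.map fun i => rI n h2 (b i : Unit ⊕ (Fin n ⊕ Fin n) → F)).prod).1 (b i) =
        if i ∈ l then -(b i : Unit ⊕ (Fin n ⊕ Fin n) → F) else b i) ∧
      (∀ z : Z, ((l.map fun i => rI n h2 (b i : Unit ⊕ (Fin n ⊕ Fin n) → F)).prod).1 z =
        (z : Unit ⊕ (Fin n ⊕ Fin n) → F)) := by
    intro l
    induction l with
    | nil => intro _; simp [one_app]
    | cons j l ih =>
      intro hl
      obtain ⟨hj, hl'⟩ := List.nodup_cons.mp hl
      obtain ⟨h1, h3⟩ := ih hl'
      refine ⟨fun i => ?_, fun z => ?_⟩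
      · rw [List.map_cons, List.prod_cons, mul_app, h1]
        by_cases hij : i = j
        · subst hij
          rw [if_neg hj, if_pos List.mem_cons_self, rI_app, hself, ← mul_assoc, mul_comm _ (2 : F),
            mul_assoc, inv_mul_cancel₀ (hQb i), mul_one, two_smul]
          abel
        · have hfix : ∀ x : Unit ⊕ (Fin n ⊕ Fin n) → F, oB n F (b j : Unit ⊕ (Fin n ⊕ Fin n) → F) x = 0 →
              (rI n h2 (b j : Unit ⊕ (Fin n ⊕ Fin n) → F)).1 x = x := fun x hx => by
            rw [rI_app, hx, mul_zero, zero_smul, sub_zero]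
          by_cases hi : i ∈ l
          · rw [if_pos hi, if_pos (List.mem_cons_of_mem j hi), map_neg, hfix _ (hoff j i (Ne.symm hij))]
          · rw [if_neg hi, if_neg (by simp [hij, hi]), hfix _ (hoff j i (Ne.symm hij))]
      · rw [List.map_cons, List.prod_cons, mul_app, h3, rI_app]
        have : oB n F (b j : Unit ⊕ (Fin n ⊕ Fin n) → F) z = 0 := by
          have := he (b j, 0) (0, z)
          rw [he0, he0] at this
          simpa [prodForm_apply] using this
        rw [this, mul_zero, zero_smul, sub_zero]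
  obtain ⟨hactU, hactZ⟩ := hact (List.finRange (finrank F U)) (List.nodup_finRange _)
  have hg : emb e one_ne_zero he (negI _, 1) = (vs.map (rI n h2)).prod := by
    rw [List.map_map]
    refine iso_ext fun x => ?_
    obtain ⟨⟨a, z⟩, rfl⟩ := e.surjective x
    rw [emb_app, he0, he0, map_add]
    congr 1
    · have hlin : (-(U.subtype) : U →ₗ[F] _) =
          ((((List.finRange (finrank F U)).map fun i => rI n h2 (b i : Unit ⊕ (Fin n ⊕ Fin n) → F)).prod).1 :
            (Unit ⊕ (Fin n ⊕ Fin n) → F) →ₗ[F] _).comp U.subtype :=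
        b.ext fun i => by
          simp only [LinearMap.comp_apply, LinearMap.neg_apply, Submodule.subtype_apply, LinearEquiv.coe_coe]
          rw [hactU, if_pos (List.mem_finRange i)]
      exact LinearMap.congr_fun hlin a
    · exact (hactZ z).symm
  rw [hg, list_mem_commutator_iff n hn h2 vs hvs] at hmem
  have hG : LinearMap.BilinForm.toMatrix b ((oB n F).restrict U) =
      Matrix.diagonal fun i => 2 * Q (b i) := by
    ext i j
    rw [LinearMap.BilinForm.toMatrix_apply]
    rcases eq_or_ne i j with rfl | h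
    · rw [Matrix.diagonal_apply_eq]; exact hself _
    · rw [Matrix.diagonal_apply_ne _ h]; exact hoff i j h
  rw [hG, Matrix.det_diagonal, Finset.prod_mul_distrib, Finset.prod_const, Finset.card_univ, Fintype.card_fin]
  refine (hU.isSquare_pow (2 : F)).mul ?_
  have h := hmem.2
  rw [List.map_map] at h
  rw [Fin.prod_univ_def]
  exact h

end Cfsg.Agent.Spectra36.PG
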