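import Mathlib
import Cfsg.Agent.Spectra36.PG.Models
import Cfsg.Agent.Spectra36.PG.Disc
import Cfsg.Agent.Spectra36.PG.OmegaSide

/-!
Elements of order `r * s` in the standard symplectic and odd orthogonal groups.
-/

set_option autoImplicit false

namespace Cfsg.Agent.Spectra36.PG

open Module (finrank)
open LinearMap (BilinForm)
open Cfsg.Agent

universe u v

variable {F : Type u} [Field F]

theorem commute_rI [Fintype F] (n : ℕ) (h2 : (2 : F) ≠ 0) (g : Iso (oB n F)) {a : Unit ⊕ (Fin n ⊕ Fin n) → F}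
    (hga : g.1 a = a) : Commute (rI n h2 a) g := iso_ext fun x => by
  rw [mul_app, mul_app, rI_app, rI_app, map_sub, map_smul, hga]
  congr 3
  conv_lhs => rw [← hga]
  exact g.2 a x

theorem alt_of_skew {V : Type v} [AddCommGroup V] [Module F V] (h2 : (2 : F) ≠ 0) {B : BilinForm F V}
    (h : ∀ x y, B y x = -1 * B x y) (x : V) : B x x = 0 :=
  (mul_eq_zero.mp (by linear_combination h x x : (2 : F) * B x x = 0)).resolve_left h2

theorem even_finrank_of_alt {U : Type u} [AddCommGroup U] [Module F U] [FiniteDimensional F U]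
    {A : BilinForm F U} (halt : ∀ x, A x x = 0) (hnd : ∀ x, (∀ y, A x y = 0) → x = 0) :
    ∃ i, finrank F U = 2 * i :=
  (exists_model_symp halt hnd).imp fun _ h => h.choose_spec.1

theorem det_negI {U : Type v} [AddCommGroup U] [Module F U] (B : BilinForm F U) :
    LinearMap.det ((negI B).1 : U →ₗ[F] U) = (-1) ^ finrank F U := by
  rw [show ((negI B).1 : U →ₗ[F] U) = (-1 : F) • LinearMap.id from LinearMap.ext fun x => by
      simp [negI_app], LinearMap.det_smul, LinearMap.det_id, mul_one]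

theorem detI_one {U : Type v} [AddCommGroup U] [Module F U] (B : BilinForm F U) :
    LinearMap.det ((1 : Iso B).1 : U →ₗ[F] U) = 1 := LinearMap.det_id

theorem orderOf_eq_of_map {G H K : Type*} [Monoid G] [Monoid H] [Monoid K] (f : G × H →* K)
    (hf : Function.Injective f) (g : G) : orderOf (f (g, 1)) = orderOf g := by
  rw [orderOf_injective f hf, Prod.orderOf, orderOf_one]; simp

/-- Two-prime elements transfer between forms of opposite symmetry. -/
theorem odd_transfer {n : ℕ} {V : Type u} [AddCommGroup V] [Module F V] [FiniteDimensional F V]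
    {B : BilinForm F V} {ε : F} (hε : ε = 1 ∨ ε = -1) (h2 : (2 : F) ≠ 0)
    (hsym : ∀ x y, B y x = ε * B x y) (hnd : ∀ x, (∀ y, B x y = 0) → x = 0)
    (hD : finrank F V ≤ 2 * n + 1) {κ : ℕ → Type} (B' : ∀ j, BilinForm F (κ j → F))
    (hemb : ∀ (U : Submodule F V) (A : BilinForm F U) (i j : ℕ), (∀ x y, A y x = -ε * A x y) →
      (∀ x, (∀ y, A x y = 0) → x = 0) → finrank F U = 2 * i →
      ∃ (e : (U × (κ j → F)) ≃ₗ[F] (κ (i + j) → F)) (c : F), c ≠ 0 ∧
        ∀ a b, B' (i + j) (e a) (e b) = c * prodForm A (B' j) a b)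
    {p : ℕ} [CharP F p] (huni : ∀ j, 1 ≤ j → ∃ g : Iso (B' j), orderOf g = p)
    {r s : ℕ} (hr : r.Prime) (hs : s.Prime) (hrs : r ≠ s) (hr2 : r ≠ 2) (hs2 : s ≠ 2) (hrp : r ≠ p)
    (hpp : p.Prime) (h : ∃ g : Iso B, orderOf g = r * s) :
    ∃ g : Iso (B' n), orderOf g = r * s := by
  classical
  obtain ⟨g, hg⟩ := h
  have hF : ∀ q : ℕ, q.Prime → q ≠ p → (q : F) ≠ 0 := fun q hq hne h =>
    hne ((Nat.prime_dvd_prime_iff_eq hpp hq).mp ((CharP.cast_eq_zero_iff F p q).mp h)).symm
  have hro : Odd r := hr.odd_of_ne_two hr2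
  have hso : Odd s := hs.odd_of_ne_two hs2
  by_cases hsp : s = p
  swap
  · have hM : ((r * s : ℕ) : F) ≠ 0 := by
      rw [Nat.cast_mul]; exact mul_ne_zero (hF r hr hrp) (hF s hs hsp)
    obtain ⟨U, Z, e, he, tU, A, -, hdim, hndU, -, hAsym, hAnd, -, het, -, -, hiff⟩ :=
      exists_twist hsym hnd g (hro.mul hso) hM (by rw [← hg, pow_orderOf_eq_one])
    obtain ⟨i, hi⟩ : ∃ i, finrank F U = 2 * i := by
      rcases hε with rfl | rfl
      · exact even_finrank_of_alt (alt_of_skew h2 fun x y => by rw [hAsym x y]) hAnd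
      · exact even_finrank_of_alt (A := B.restrict U) (alt_of_skew h2 fun x y => hsym _ _) hndU
    obtain ⟨j, rfl⟩ : ∃ j, n = i + j := ⟨n - i, by omega⟩
    obtain ⟨e', c, hc, he'⟩ := hemb U A i j hAsym hAnd hi
    let tA : Iso A := ⟨tU.1, (hiff tU.1 (Commute.refl _)).mp tU.2⟩
    refine ⟨emb e' hc he' (tA, 1), ?_⟩
    rw [orderOf_eq_of_map _ emb_injective]
    rw [← hg, ← het, orderOf_eq_of_map _ emb_injective, ← Subgroup.orderOf_coe tU, ← Subgroup.orderOf_coe tA]
  subst hsp
  have htr : orderOf (g ^ s) = r := by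
    rw [orderOf_pow' g hs.ne_zero, hg, Nat.gcd_eq_right (dvd_mul_left s r), Nat.mul_div_cancel _ hs.pos]
  have hus : orderOf (g ^ r) = s := by
    rw [orderOf_pow' g hr.ne_zero, hg, Nat.gcd_eq_right (dvd_mul_right r s), Nat.mul_div_cancel_left _ hr.pos]
  obtain ⟨U, Z, e, he, tU, A, -, hdim, hndU, hndZ, hAsym, hAnd, -, het, -, hsplit, hiff⟩ :=
    exists_twist hsym hnd (g ^ s) hro (hF r hr hrp) (by rw [← htr]; exact pow_orderOf_eq_one (g ^ s))
  obtain ⟨gU, gZ, heu, hcomm⟩ := hsplit (g ^ r) (Commute.pow_pow (Commute.refl g) r s)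
  obtain ⟨i, hi⟩ : ∃ i, finrank F U = 2 * i := by
    rcases hε with rfl | rfl
    · exact even_finrank_of_alt (alt_of_skew h2 fun x y => by rw [hAsym x y]) hAnd
    · exact even_finrank_of_alt (A := B.restrict U) (alt_of_skew h2 fun x y => hsym _ _) hndU
  obtain ⟨j, rfl⟩ : ∃ j, n = i + j := ⟨n - i, by omega⟩
  obtain ⟨e', c, hc, he'⟩ := hemb U A i j hAsym hAnd hi
  let tA : Iso A := ⟨tU.1, (hiff tU.1 (Commute.refl _)).mp tU.2⟩
  have htA : orderOf tA = r := by
    rw [← Subgroup.orderOf_coe tA, ← htr, ← het, orderOf_eq_of_map _ emb_injective, ← Subgroup.orderOf_coe tU]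
  have hpair : (gU, gZ) ^ s = 1 := emb_injective (e := e) (hc := one_ne_zero) (he := he) (by
    rw [map_pow, heu, map_one, ← hus]; exact pow_orderOf_eq_one _)
  by_cases hgU : gU = 1
  · have hgZ : gZ ≠ 1 := fun hz => hs.ne_one (by
      rw [← hus, ← heu, hgU, hz, show emb e one_ne_zero he (1, 1) = 1 from map_one _, orderOf_one])
    haveI : Fact s.Prime := ⟨hs⟩
    have hgZs : gZ ^ s = 1 := congrArg Prod.snd hpair
    have hZ2 : 2 ≤ finrank F Z := by
      by_contra hlt
      rcases Nat.lt_or_ge (finrank F Z) 1 with h0 | h1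
      · exact hgZ (eq_one_of_finrank_eq_zero (by omega) gZ)
      · rcases eq_one_or_negI_of_finrank_eq_one (B := B.restrict Z) (by omega) hndZ gZ with h | h
        · exact hgZ h
        · obtain ⟨m, hm⟩ := hso
          rw [h, hm, pow_succ, pow_mul, sq, negI_mul_self, one_pow, one_mul] at hgZs
          exact hgZ (h.trans hgZs)
    obtain ⟨w, hw⟩ := huni j (by omega)
    refine ⟨emb e' hc he' (tA, w), ?_⟩
    rw [orderOf_injective _ emb_injective, Prod.orderOf, htA, hw]
    exact ((Nat.coprime_primes hr hs).mpr hrs).lcm_eq_mul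
  · let uA : Iso A := ⟨gU.1, (hiff gU.1 (congrArg Subtype.val hcomm.eq)).mp gU.2⟩
    haveI : Fact s.Prime := ⟨hs⟩
    have huA : orderOf uA = s := by
      rw [← Subgroup.orderOf_coe uA]
      show orderOf gU.1 = s
      rw [Subgroup.orderOf_coe]
      exact orderOf_eq_prime (congrArg Prod.fst hpair) hgU
    refine ⟨emb e' hc he' (tA * uA, 1), ?_⟩
    rw [orderOf_eq_of_map _ emb_injective,
      Commute.orderOf_mul_eq_mul_orderOf_of_coprime (x := tA) (y := uA)
        (Subtype.ext (congrArg Subtype.val hcomm.symm.eq :))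
        (by rw [htA, huA]; exact (Nat.coprime_primes hr hs).mpr hrs), htA, huA]

/-- Data for an element of order `2 * s` modulo the centre of the symplectic group. -/
def TwoSp (n : ℕ) (F : Type u) [Field F] (s : ℕ) : Prop :=
  ∃ h y : Iso (Forms.sympBilin n F), orderOf h = s ∧ Commute y h ∧
    (y * y = 1 ∨ y * y = negI _) ∧ y ≠ 1 ∧ y ≠ negI _

/-- Data for an element of order `2 * s` in the commutator subgroup of the orthogonal group. -/
def TwoO (n : ℕ) (F : Type u) [Field F] (s : ℕ) : Prop :=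
  ∃ h y : Iso (oB n F), h ∈ commutator (Iso (oB n F)) ∧ y ∈ commutator (Iso (oB n F)) ∧
    orderOf h = s ∧ Commute y h ∧ y * y = 1 ∧ y ≠ 1

variable [Fintype F]

theorem sq_mem_commutator (n : ℕ) (hn : 1 ≤ n) (h2 : (2 : F) ≠ 0) (g : Iso (oB n F)) :
    g * g ∈ commutator (Iso (oB n F)) := by
  rw [mem_commutator_iff n h2, map_mul]
  exact Forms59.sq_mem_omega (qOdd_nondeg h2 n) (Or.inr (by simp; omega)) _

theorem two_sp_of_char {p : ℕ} [Fact p.Prime] [CharP F p] (h2 : (2 : F) ≠ 0) {n : ℕ} (hn : 2 ≤ n) :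
    TwoSp n F p := by
  obtain ⟨j, rfl⟩ : ∃ j, n = 1 + j := ⟨n - 1, by omega⟩
  obtain ⟨e, c, hc, he⟩ := exists_emb_symp (i := 1) (j := j) (A := Forms.sympBilin 1 F)
    (fun x => Forms.sympBilin_isAlt.self_eq_zero x) Forms.sympBilin_nondegenerate.1 (finrank_vec 1)
  obtain ⟨u, hu⟩ := exists_unipotent_symp (F := F) (p := p) h2 (j := j) (by omega)
  refine ⟨emb e hc he (1, u), emb e hc he (negI _, 1), ?_, ?_, Or.inl ?_, ?_, ?_⟩
  · rw [orderOf_injective _ emb_injective, Prod.orderOf, orderOf_one, hu]; simp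
  · exact (Commute.prod (Commute.one_right _) (Commute.one_left _)).map _
  · rw [← map_mul, Prod.mk_mul_mk, negI_mul_self, mul_one]; exact map_one _
  · intro h
    haveI : Nontrivial (Symplectic.Vec 1 F) := Module.nontrivial_of_finrank_pos (R := F) (by rw [finrank_vec]; omega)
    exact negI_ne_one h2 (congrArg Prod.fst (emb_injective (h.trans (map_one _).symm)))
  · intro h
    haveI : Nontrivial (Symplectic.Vec j F) := Module.nontrivial_of_finrank_pos (R := F) (by rw [finrank_vec]; omega)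
    exact negI_ne_one h2 (congrArg Prod.snd (emb_injective (h.trans emb_negI.symm))).symm

theorem two_o_of_char {p : ℕ} [Fact p.Prime] [CharP F p] (h2 : (2 : F) ≠ 0) (hp2 : p ≠ 2) {n : ℕ}
    (hn : 2 ≤ n) : TwoO n F p := by
  obtain ⟨j, rfl⟩ : ∃ j, n = 1 + j := ⟨n - 1, by omega⟩
  let A : BilinForm F (F × F) := prodForm (LinearMap.mul F F) (LinearMap.mul F F)
  have hA : ∀ x y, A x y = x.1 * y.1 + x.2 * y.2 := fun _ _ => rfl
  obtain ⟨e, c, hc, he⟩ := exists_emb_odd (i := 1) (j := j) h2 (A := A)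
    (fun x y => by simp only [hA]; ring)
    (fun x hx => Prod.ext (by simpa [hA] using hx (1, 0)) (by simpa [hA] using hx (0, 1)))
    (by rw [Module.finrank_prod, Module.finrank_self])
  obtain ⟨u, hu⟩ := exists_unipotent_odd (F := F) (p := p) h2 (j := j) (by omega)
  let h := emb e hc he (1, u)
  have ho : orderOf h = p := by
    rw [orderOf_injective _ emb_injective, Prod.orderOf, orderOf_one, hu]; simp
  let a := e ((1, 0), 0)
  let b := e ((0, 1), 0)
  have hself : ∀ x, oB (1 + j) F x x = 2 * UnitaryOrthogonal.qOdd (1 + j) F x :=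
    fun x => UnitaryOrthogonal.polar_self_eq x
  have hQ : ∀ x : F × F, 2 * UnitaryOrthogonal.qOdd (1 + j) F (e (x, 0)) = c * (x.1 * x.1 + x.2 * x.2) := by
    intro x
    rw [← hself, he, prodForm_apply, hA]
    simp
  have hQa : UnitaryOrthogonal.qOdd (1 + j) F a = c / 2 := by
    rw [eq_div_iff h2, mul_comm]; simpa using hQ (1, 0)
  have hQb : UnitaryOrthogonal.qOdd (1 + j) F b = c / 2 := by
    rw [eq_div_iff h2, mul_comm]; simpa using hQ (0, 1)
  have hab : oB (1 + j) F a b = 0 := by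
    rw [he, prodForm_apply, hA]; simp
  have hne : c / 2 ≠ 0 := div_ne_zero hc h2
  have hfix : ∀ x : F × F, h.1 (e (x, 0)) = e (x, 0) := fun x => by
    rw [emb_app, one_app, map_zero]
  have hba : (rI (1 + j) h2 b).1 a = a := by
    rw [rI_app, oB_symm, hab, mul_zero, zero_smul, sub_zero]
  refine ⟨h, rI (1 + j) h2 a * rI (1 + j) h2 b, mem_commutator_of_odd _ (by omega) h2 h ?_, ?_, ho,
    (commute_rI _ h2 h (hfix _)).mul_left (commute_rI _ h2 h (hfix _)), ?_, ?_⟩
  · rw [ho]; exact (Fact.out : p.Prime).odd_of_ne_two hp2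
  · have := (list_mem_commutator_iff (1 + j) (by omega) h2 [a, b] (by
      intro v hv
      simp only [List.mem_cons, List.not_mem_nil, or_false] at hv
      rcases hv with rfl | rfl
      · rw [hQa]; exact hne
      · rw [hQb]; exact hne)).mpr ⟨by simp, by
        simp only [List.map_cons, List.map_nil, List.prod_cons, List.prod_nil, mul_one, hQa, hQb]
        exact IsSquare.mul_self _⟩
    simpa using this
  · rw [(commute_rI _ h2 (rI (1 + j) h2 b) hba).symm.mul_mul_mul_comm, rI_mul_self, rI_mul_self, mul_one]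
  · intro h1
    have h3 := congrArg (fun g : Iso (oB (1 + j) F) => g.1 a) h1
    simp only [mul_app, hba, one_app, rI_app, hself, hQa] at h3
    rw [← mul_assoc, mul_comm _ (2 : F), mul_assoc, inv_mul_cancel₀ hne, mul_one, sub_eq_self,
      smul_eq_zero] at h3
    exact one_ne_zero (congrArg Prod.fst (congrArg Prod.fst (e.injective
      ((h3.resolve_left h2).trans (map_zero e).symm))))

/-- When the fixed space is large, both groups have elements of order `2 * s`. -/
theorem two_both_of_small {U : Type u} [AddCommGroup U] [Module F U] [FiniteDimensional F U] [Nontrivial U]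
    (h2 : (2 : F) ≠ 0) {As Aa : BilinForm F U} (hs : ∀ x y, As y x = As x y)
    (hsnd : ∀ x, (∀ y, As x y = 0) → x = 0) (ha : ∀ x, Aa x x = 0)
    (hand : ∀ x, (∀ y, Aa x y = 0) → x = 0) (t : U ≃ₗ[F] U) (hts : t ∈ Iso As) (hta : t ∈ Iso Aa)
    {s : ℕ} (hto : orderOf t = s) (hso : Odd s) {i j : ℕ} (hi : finrank F U = 2 * i) (hj : 1 ≤ j) :
    TwoSp (i + j) F s ∧ TwoO (i + j) F s := by
  classical
  constructor
  · obtain ⟨e, c, hc, he⟩ := exists_emb_symp (j := j) ha hand hi
    refine ⟨emb e hc he (⟨t, hta⟩, 1), emb e hc he (negI _, 1), ?_, ?_, Or.inl ?_, ?_, ?_⟩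
    · rw [orderOf_eq_of_map _ emb_injective, ← hto, ← Subgroup.orderOf_coe]
    · exact ((negI_comm _).prod (Commute.refl 1)).map _
    · rw [← map_mul, Prod.mk_mul_mk, negI_mul_self, mul_one]; exact map_one _
    · exact fun h => negI_ne_one h2 (congrArg Prod.fst (emb_injective (h.trans (map_one _).symm)))
    · intro h
      haveI : Nontrivial (Symplectic.Vec j F) :=
        Module.nontrivial_of_finrank_pos (R := F) (by rw [finrank_vec]; omega)
      exact negI_ne_one h2 (congrArg Prod.snd (emb_injective (h.trans emb_negI.symm))).symm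
  · obtain ⟨e, c, hc, he⟩ := exists_emb_odd (j := j) h2 hs hsnd hi
    let h := emb e hc he (⟨t, hts⟩, 1)
    let y := emb e hc he (negI _, 1)
    have ho : orderOf h = s := by
      rw [orderOf_eq_of_map _ emb_injective, ← hto, ← Subgroup.orderOf_coe]
    obtain ⟨ν, hν0, hν⟩ := Reflections.exists_nonsquare_scalar (F := F) h2
    let a₀ : Unit ⊕ (Fin j ⊕ Fin j) → F := Pi.single (.inl ()) 1
    let b₀ : Unit ⊕ (Fin j ⊕ Fin j) → F :=
      Pi.single (.inr (.inl ⟨0, hj⟩)) 1 + Pi.single (.inr (.inr ⟨0, hj⟩)) ν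
    have hQa : UnitaryOrthogonal.qOdd j F a₀ = 1 := by
      simp [a₀, UnitaryOrthogonal.qOdd_apply, Cfsg.quadFormOdd, Pi.single_apply]
    have hQb : UnitaryOrthogonal.qOdd j F b₀ = ν := by
      simp [b₀, UnitaryOrthogonal.qOdd_apply, Cfsg.quadFormOdd, Pi.single_apply]
    have hab₀ : oB j F a₀ b₀ = 0 := by
      show QuadraticMap.polar _ _ _ = 0
      simp [a₀, b₀, QuadraticMap.polar, UnitaryOrthogonal.qOdd_apply, Cfsg.quadFormOdd, Pi.single_apply]
    let a := e (0, a₀)
    let b := e (0, b₀)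
    have hQe : ∀ x, UnitaryOrthogonal.qOdd (i + j) F (e (0, x)) = c * UnitaryOrthogonal.qOdd j F x := by
      intro x
      refine mul_left_cancel₀ h2 ?_
      rw [← UnitaryOrthogonal.polar_self_eq]
      show oB (i + j) F (e (0, x)) (e (0, x)) = _
      rw [he, prodForm_apply]
      show c * (As 0 0 + QuadraticMap.polar _ x x) = _
      rw [map_zero, zero_add, UnitaryOrthogonal.polar_self_eq]
      ring
    have hab : oB (i + j) F a b = 0 := by
      rw [he, prodForm_apply, hab₀]; simp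
    have hcls : ¬ IsSquare (UnitaryOrthogonal.qOdd (i + j) F a * UnitaryOrthogonal.qOdd (i + j) F b) := by
      rw [hQe, hQe, hQa, hQb]
      rintro ⟨r, hr⟩
      exact hν ⟨r / c, by field_simp; linear_combination hr⟩
    have hhy : Commute y h := ((negI_comm _).prod (Commute.refl 1)).map _
    have hdet : LinearMap.det (y.1 : (Unit ⊕ (Fin (i + j) ⊕ Fin (i + j)) → F) →ₗ[F] _) = 1 := by
      rw [det_emb, det_negI, hi, pow_mul, neg_one_sq, one_pow, one_mul]
      exact LinearMap.det_id
    have hfh : ∀ x, h.1 (e (0, x)) = e (0, x) := fun x => by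
      rw [emb_app, one_app, map_zero]
    have hfy : ∀ x, y.1 (e (0, x)) = e (0, x) := fun x => by
      rw [emb_app, one_app, map_zero]
    have hhm : h ∈ commutator _ := mem_commutator_of_odd _ (by omega) h2 h (by rwa [ho])
    have hyy : y * y = 1 := by
      rw [← map_mul, Prod.mk_mul_mk, negI_mul_self, mul_one]; exact map_one _
    rcases mem_or_mul_mem (i + j) (by omega) h2 y hdet hcls with hy | hy
    · exact ⟨h, y, hhm, hy, ho, hhy, hyy,
        fun h' => negI_ne_one h2 (congrArg Prod.fst (emb_injective (h'.trans (map_one _).symm)))⟩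
    · have hba : (rI (i + j) h2 b).1 a = a := by
        rw [rI_app, oB_symm, hab, mul_zero, zero_smul, sub_zero]
      have hcc : (rI (i + j) h2 a * rI (i + j) h2 b) * (rI (i + j) h2 a * rI (i + j) h2 b) = 1 := by
        rw [(commute_rI _ h2 (rI (i + j) h2 b) hba).symm.mul_mul_mul_comm, rI_mul_self, rI_mul_self, mul_one]
      refine ⟨h, _, hhm, hy, ho, hhy.mul_left
        ((commute_rI _ h2 h (hfh _)).mul_left (commute_rI _ h2 h (hfh _))), ?_, ?_⟩
      · rw [((commute_rI _ h2 y (hfy _)).mul_left (commute_rI _ h2 y (hfy _))).mul_mul_mul_comm, hyy, hcc,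
          one_mul]
      · intro h1
        obtain ⟨w, hw⟩ := exists_ne (0 : U)
        have h0 : ∀ x, oB (i + j) F (e (0, x)) (e (w, 0)) = 0 := fun x => by
          rw [he, prodForm_apply]; simp
        have hca : ∀ x, (rI (i + j) h2 (e (0, x))).1 (e (w, 0)) = e (w, 0) := fun x => by
          rw [rI_app, h0, mul_zero, zero_smul, sub_zero]
        have h3 := congrArg (fun g : Iso (oB (i + j) F) => g.1 (e (w, 0))) h1
        rw [show y * (rI (i + j) h2 a * rI (i + j) h2 b) =
          y * (rI (i + j) h2 (e (0, a₀)) * rI (i + j) h2 (e (0, b₀))) from rfl] at h3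
        simp only [mul_app, hca, one_app] at h3
        rw [emb_app, negI_app, one_app] at h3
        have h4 : -w = w := congrArg Prod.fst (e.injective h3)
        have h5 : (2 : F) • w = 0 := by rw [two_smul]; exact add_eq_zero_iff_eq_neg.mpr h4.symm
        exact hw ((smul_eq_zero.mp h5).resolve_left h2)

theorem two_o_of_two_sp {p : ℕ} [CharP F p] (h2 : (2 : F) ≠ 0) {n : ℕ} (hn : 1 ≤ n) {s : ℕ}
    (hs : s.Prime) (hs2 : s ≠ 2) (hsp : (s : F) ≠ 0) (hS : TwoSp n F s) : TwoO n F s := by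
  classical
  obtain ⟨h, y, hho, hyh, hy2, hy1, hyn⟩ := hS
  have hso : Odd s := hs.odd_of_ne_two hs2
  obtain ⟨U, Z, e, he, tU, A, -, hdim, hndU, -, hAsym, hAnd, -, het, -, hsplit, hiff⟩ :=
    exists_twist (ε := (-1 : F)) (fun x u => by
      rw [← LinearMap.BilinForm.IsAlt.neg_eq Forms.sympBilin_isAlt x u]; ring) Forms.sympBilin_nondegenerate.1 h hso hsp
      (by rw [← hho, pow_orderOf_eq_one])
  have halt : ∀ x : U, ((Forms.sympBilin n F).restrict U) x x = 0 := fun x => Forms.sympBilin_isAlt.self_eq_zero _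
  have hAs : ∀ x u, A u x = A x u := fun x u => by rw [hAsym]; ring
  obtain ⟨i, hi⟩ := even_finrank_of_alt halt hndU
  have htUo : orderOf tU = s := by
    rw [← hho, ← het, orderOf_eq_of_map _ emb_injective]
  haveI : Nontrivial U := by
    by_contra hU
    rw [not_nontrivial_iff_subsingleton] at hU
    have : tU = 1 := iso_ext fun x => Subsingleton.elim _ _
    rw [this, orderOf_one] at htUo
    exact hs.ne_one htUo.symm
  rw [finrank_vec] at hdim
  rcases Nat.lt_or_ge i n with hlt | hge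
  · obtain ⟨j, rfl⟩ : ∃ j, n = i + j := ⟨n - i, by omega⟩
    exact (two_both_of_small h2 hAs hAnd halt hndU tU.1 ((hiff tU.1 (Commute.refl _)).mp tU.2) tU.2
      (by rw [Subgroup.orderOf_coe, htUo]) hso hi (by omega)).2
  obtain rfl : n = i := by omega
  have hZ0 : finrank F Z = 0 := by omega
  obtain ⟨gU, gZ, hegy, hcomm⟩ := hsplit y hyh
  obtain rfl : gZ = 1 := eq_one_of_finrank_eq_zero hZ0 gZ
  have hnZ : negI ((Forms.sympBilin n F).restrict Z) = 1 := eq_one_of_finrank_eq_zero hZ0 _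
  have hnegY : emb e one_ne_zero he (negI _, 1) = negI (Forms.sympBilin n F) := by
    conv_lhs => rw [← hnZ]
    exact emb_negI
  have hg1 : gU ≠ 1 := fun hg => hy1 (by rw [← hegy, hg]; exact map_one _)
  have hgn : gU ≠ negI _ := fun hg => hyn (by rw [← hegy, hg, hnegY])
  have hg2 : gU * gU = 1 ∨ gU * gU = negI _ := by
    rw [← hegy, ← map_mul, Prod.mk_mul_mk, mul_one] at hy2
    rcases hy2 with h' | h'
    · exact Or.inl (congrArg Prod.fst (emb_injective (h'.trans (map_one _).symm)))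
    · exact Or.inr (congrArg Prod.fst (emb_injective (h'.trans hnegY.symm)))
  obtain ⟨e', c, hc, he'⟩ := exists_emb_odd (i := n) (j := 0) h2 hAs hAnd hi
  let tA : Iso A := ⟨tU.1, (hiff tU.1 (Commute.refl _)).mp tU.2⟩
  let gA : Iso A := ⟨gU.1, (hiff gU.1 (congrArg Subtype.val hcomm.eq)).mp gU.2⟩
  let h' := emb e' hc he' (tA, 1)
  let Y := emb e' hc he' (gA, 1)
  let N := emb e' hc he' (negI A, 1)
  have hho' : orderOf h' = s := by
    rw [orderOf_eq_of_map _ emb_injective, ← Subgroup.orderOf_coe]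
    show orderOf tU.1 = s
    rw [Subgroup.orderOf_coe, htUo]
  have hdetY : LinearMap.det (Y.1 : (Unit ⊕ (Fin (n + 0) ⊕ Fin (n + 0)) → F) →ₗ[F] _) = 1 := by
    rw [det_emb, detI_one, mul_one]
    exact det_eq_one_of_alt halt hndU gU
  have hdetN : LinearMap.det (N.1 : (Unit ⊕ (Fin (n + 0) ⊕ Fin (n + 0)) → F) →ₗ[F] _) = 1 := by
    rw [det_emb, detI_one, mul_one,
      det_negI, hi, pow_mul, neg_one_sq, one_pow]
  have hh'm : h' ∈ commutator _ := mem_commutator_of_odd _ (by omega) h2 h' (by rwa [hho'])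
  have hYh : Commute Y h' :=
    ((show Commute gA tA from Subtype.ext (congrArg Subtype.val hcomm.eq :)).prod (Commute.refl 1)).map _
  have hNh : Commute N h' := ((negI_comm _).prod (Commute.refl 1)).map _
  have hNN : N * N = 1 := by
    rw [← map_mul, Prod.mk_mul_mk, negI_mul_self, mul_one]; exact map_one _
  have hN1 : N ≠ 1 := fun h' => negI_ne_one h2 (congrArg Prod.fst (emb_injective (h'.trans (map_one _).symm)))
  show TwoO (n + 0) F s
  by_cases hN : N ∈ commutator (Iso (oB (n + 0) F))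
  · exact ⟨h', N, hh'm, hN, hho', hNh, hNN, hN1⟩
  have hgA2 : gA * gA = 1 := by
    rcases hg2 with hh | hh
    · exact Subtype.ext (congrArg Subtype.val hh :)
    · exfalso
      refine hN ?_
      have : Y * Y = N := by
        rw [← map_mul, Prod.mk_mul_mk, mul_one]
        exact congrArg (fun z => emb e' hc he' (z, 1)) (Subtype.ext (congrArg Subtype.val hh :))
      rw [← this]
      exact sq_mem_commutator _ (by omega) h2 Y
  have hYY : Y * Y = 1 := by
    rw [← map_mul, Prod.mk_mul_mk, hgA2, mul_one]; exact map_one _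
  by_cases hY : Y ∈ commutator (Iso (oB (n + 0) F))
  · exact ⟨h', Y, hh'm, hY, hho', hYh, hYY, fun h1 =>
      hg1 (Subtype.ext (congrArg Subtype.val (congrArg Prod.fst (emb_injective (h1.trans (map_one _).symm))) :))⟩
  refine ⟨h', Y * N, hh'm, mul_mem_of_not_mem _ (by omega) h2 hdetY hdetN hY hN, hho', hYh.mul_left hNh, ?_, ?_⟩
  · rw [(show Commute N Y from ((negI_comm gA).prod (Commute.refl 1)).map _).mul_mul_mul_comm, hYY, hNN, mul_one]
  · intro h1
    have h3 : gA = negI A := by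
      have h4 := congrArg (· * N) h1
      simp only [mul_assoc, hNN, mul_one, one_mul] at h4
      exact congrArg Prod.fst (emb_injective h4)
    exact hgn (Subtype.ext (congrArg Subtype.val h3 :))

theorem two_sp_of_two_o {p : ℕ} [CharP F p] (h2 : (2 : F) ≠ 0) {n : ℕ} (hn : 1 ≤ n) {s : ℕ}
    (hs : s.Prime) (hs2 : s ≠ 2) (hsp : (s : F) ≠ 0) (hO : TwoO n F s) : TwoSp n F s := by
  classical
  obtain ⟨h, y, -, hym, hho, hyh, hy2, hy1⟩ := hO
  have hso : Odd s := hs.odd_of_ne_two hs2
  have htM : h ^ s = 1 := by rw [← hho, pow_orderOf_eq_one]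
  obtain ⟨U, Z, e, he, tU, A, he0, hdim, hndU, hndZ, hAsym, hAnd, hA, het, hfix, hsplit, hiff⟩ :=
    exists_twist (ε := (1 : F)) (fun x u => by rw [oB_symm, one_mul]) (oB_nd h2 n) h hso hsp htM
  have halt : ∀ x, A x x = 0 := alt_of_skew h2 fun x u => hAsym x u
  have hBs : ∀ x u : U, ((oB n F).restrict U) u x = ((oB n F).restrict U) x u := fun x u => oB_symm n _ _
  obtain ⟨i, hi⟩ := even_finrank_of_alt halt hAnd
  have htUo : orderOf tU = s := by
    rw [← hho, ← het, orderOf_eq_of_map _ emb_injective]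
  haveI : Nontrivial U := by
    by_contra hU
    rw [not_nontrivial_iff_subsingleton] at hU
    have : tU = 1 := iso_ext fun x => Subsingleton.elim _ _
    rw [this, orderOf_one] at htUo
    exact hs.ne_one htUo.symm
  rw [finrank_oB] at hdim
  rcases Nat.lt_or_ge i n with hlt | hge
  · obtain ⟨j, rfl⟩ : ∃ j, n = i + j := ⟨n - i, by omega⟩
    exact (two_both_of_small h2 hBs hndU halt hAnd tU.1 tU.2 ((hiff tU.1 (Commute.refl _)).mp tU.2)
      (by rw [Subgroup.orderOf_coe, htUo]) hso hi (by omega)).1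
  obtain rfl : n = i := by omega
  have hZ1 : finrank F Z = 1 := by omega
  obtain ⟨gU, gZ, hegy, hcomm⟩ := hsplit y hyh
  let gA : Iso A := ⟨gU.1, (hiff gU.1 (congrArg Subtype.val hcomm.eq)).mp gU.2⟩
  have hdetgU : LinearMap.det (gU.1 : U →ₗ[F] U) = 1 := det_eq_one_of_alt halt hAnd gA
  obtain rfl : gZ = 1 := by
    rcases eq_one_or_negI_of_finrank_eq_one hZ1 hndZ gZ with h' | h'
    · exact h'
    · exfalso
      have := det_eq_one_of_mem_commutator hym
      rw [← hegy, det_emb, hdetgU, one_mul, h', det_negI, hZ1, pow_one] at this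
      exact h2 (by linear_combination -this)
  have hg1 : gU ≠ 1 := fun hg => hy1 (by rw [← hegy, hg]; exact map_one _)
  rw [← hegy, ← map_mul, Prod.mk_mul_mk, mul_one] at hy2
  have hg2 : gU * gU = 1 := congrArg Prod.fst (emb_injective (hy2.trans (map_one _).symm))
  -- a suitable element of the centraliser
  obtain ⟨w, hwt, hw2, hw1, hwn⟩ : ∃ w : Iso ((oB n F).restrict U), Commute w tU ∧
      (w * w = 1 ∨ w * w = negI _) ∧ w ≠ 1 ∧ w ≠ negI _ := by
    by_cases hgn : gU = negI _
    swap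
    · exact ⟨gU, hcomm, Or.inl hg2, hg1, hgn⟩
    rw [← hegy, hgn] at hym
    obtain ⟨k, b, hb⟩ := isSquare_disc_of_mem n hn h2 e he he0 hndU ⟨n, by omega⟩ hym
    refine exists_centralizing_of_isSquare_det h2 hBs hndU tU hso hsp ?_ hfix ?_
    · exact orderOf_dvd_iff_pow_eq_one.mp (by rw [htUo])
    · exact isSquare_det_twist halt hAnd _ (fun x u => hA x u) b hb
  obtain ⟨e', c, hc, he'⟩ := exists_emb_symp (i := n) (j := 0) halt hAnd hi
  let tA : Iso A := ⟨tU.1, (hiff tU.1 (Commute.refl _)).mp tU.2⟩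
  let wA : Iso A := ⟨w.1, (hiff w.1 (congrArg Subtype.val hwt.eq)).mp w.2⟩
  have hn0 : negI (Forms.sympBilin 0 F) = 1 := eq_one_of_finrank_eq_zero (finrank_vec 0) _
  have hneg : emb e' hc he' (negI A, 1) = negI (Forms.sympBilin (n + 0) F) := by
    conv_lhs => rw [← hn0]
    exact emb_negI
  show TwoSp (n + 0) F s
  refine ⟨emb e' hc he' (tA, 1), emb e' hc he' (wA, 1), ?_, ?_, ?_, ?_, ?_⟩
  · rw [orderOf_eq_of_map _ emb_injective, ← Subgroup.orderOf_coe]
    show orderOf tU.1 = s
    rw [Subgroup.orderOf_coe, htUo]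
  · exact ((show Commute wA tA from Subtype.ext (congrArg Subtype.val hwt.eq :)).prod (Commute.refl 1)).map _
  · rw [← map_mul, Prod.mk_mul_mk, mul_one]
    rcases hw2 with hh | hh
    · exact Or.inl (by rw [show wA * wA = 1 from Subtype.ext (congrArg Subtype.val hh :)]; exact map_one _)
    · exact Or.inr (by rw [show wA * wA = negI A from Subtype.ext (congrArg Subtype.val hh :), hneg])
  · exact fun h1 => hw1 (Subtype.ext (congrArg Subtype.val
      (congrArg Prod.fst (emb_injective (h1.trans (map_one _).symm))) :))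
  · exact fun h1 => hwn (Subtype.ext (congrArg Subtype.val
      (congrArg Prod.fst (emb_injective (h1.trans hneg.symm))) :))

end Cfsg.Agent.Spectra36.PG
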