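import Mathlib
import Cfsg.Agent.Spectra36.PG.Transfer
import Cfsg.Agent.Lib.UnitaryOrthogonal.OmegaStandard
import Cfsg.Agent.Lib.Symplectic.Simple

/-!
The orders `r * s` in the two simple groups, expressed in the isometry groups of the forms.
-/

set_option autoImplicit false

namespace Cfsg.Agent.Spectra36.PG

open Module (finrank)
open LinearMap (BilinForm)
open Cfsg.Agent

universe u

variable {G : Type*} [Group G] [Finite G] {Z : Subgroup G} [Z.Normal]

theorem exists_odd_quot_iff (hZ : ∀ z ∈ Z, z * z = 1) {N : ℕ} (hN : Odd N) :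
    (∃ x : G ⧸ Z, orderOf x = N) ↔ ∃ g : G, orderOf g = N := by
  constructor
  · rintro ⟨x, rfl⟩
    obtain ⟨g, rfl⟩ := QuotientGroup.mk_surjective x
    exact KS58.exists_orderOf_eq_of_dvd g (orderOf_map_dvd (QuotientGroup.mk' Z) g)
  · rintro ⟨g, rfl⟩
    refine ⟨(g : G ⧸ Z), Nat.dvd_antisymm (orderOf_map_dvd (QuotientGroup.mk' Z) g) ?_⟩
    set m := orderOf (g : G ⧸ Z)
    have hm : g ^ m ∈ Z := by
      rw [← QuotientGroup.eq_one_iff, QuotientGroup.mk_pow, pow_orderOf_eq_one]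
    have h : g ^ (m * 2) = 1 := by rw [pow_mul, sq]; exact hZ _ hm
    exact (Nat.Coprime.dvd_of_dvd_mul_right (Nat.Coprime.symm (Nat.coprime_two_left.mpr hN))
      (orderOf_dvd_of_pow_eq_one h))

theorem exists_two_quot_iff (hZ : ∀ z ∈ Z, z * z = 1) {s : ℕ} (hs : s.Prime) (hs2 : s ≠ 2) :
    (∃ x : G ⧸ Z, orderOf x = 2 * s) ↔
      ∃ h y : G, orderOf h = s ∧ Commute y h ∧ y * y ∈ Z ∧ y ∉ Z := by
  have hso : Odd s := hs.odd_of_ne_two hs2
  have hcop : Nat.Coprime 2 s := Nat.coprime_two_left.mpr hso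
  constructor
  · rintro ⟨x, hx⟩
    obtain ⟨g, rfl⟩ := QuotientGroup.mk_surjective x
    have hx2 : orderOf ((g : G ⧸ Z) ^ 2) = s := by
      rw [orderOf_pow' _ (by omega), hx, Nat.gcd_eq_right (dvd_mul_right 2 s), Nat.mul_div_cancel_left _ two_pos]
    have hg : g ^ (2 * s) ∈ Z := by
      rw [← QuotientGroup.eq_one_iff, QuotientGroup.mk_pow, ← hx, pow_orderOf_eq_one]
    obtain ⟨h, hh⟩ : ∃ h ∈ Subgroup.zpowers g, orderOf h = s := by
      have hd : s ∣ orderOf g := (Dvd.intro_left 2 rfl).trans (hx ▸ orderOf_map_dvd (QuotientGroup.mk' Z) g)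
      exact ⟨g ^ (orderOf g / s), pow_mem (Subgroup.mem_zpowers g) _,
        orderOf_pow_orderOf_div (orderOf_pos g).ne' hd⟩
    obtain ⟨k, rfl⟩ := Subgroup.mem_zpowers_iff.mp hh.1
    refine ⟨g ^ k, g ^ s, hh.2, ((Commute.refl g).pow_left s).zpow_right k, ?_, fun hy => ?_⟩
    · rw [← pow_add, ← two_mul]; exact hg
    · rw [← QuotientGroup.eq_one_iff, QuotientGroup.mk_pow, ← orderOf_dvd_iff_pow_eq_one, hx] at hy
      have := Nat.le_of_dvd hs.pos hy
      have := hs.pos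
      omega
  · rintro ⟨h, y, hh, hc, hyy, hy⟩
    refine ⟨((y * h : G) : G ⧸ Z), ?_⟩
    have hh' : orderOf (h : G ⧸ Z) = s := by
      have hd : orderOf (h : G ⧸ Z) ∣ s := hh ▸ orderOf_map_dvd (QuotientGroup.mk' Z) h
      rcases (Nat.dvd_prime hs).mp hd with h1 | h1
      · exfalso
        rw [orderOf_eq_one_iff, QuotientGroup.eq_one_iff] at h1
        have h2 := orderOf_dvd_of_pow_eq_one ((sq h).trans (hZ _ h1))
        rw [hh] at h2
        exact hs2 ((Nat.prime_dvd_prime_iff_eq hs Nat.prime_two).mp h2)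
      · exact h1
    have hy' : orderOf (y : G ⧸ Z) = 2 := by
      haveI : Fact (Nat.Prime 2) := ⟨Nat.prime_two⟩
      refine orderOf_eq_prime ?_ (by rwa [ne_eq, QuotientGroup.eq_one_iff])
      rw [sq, ← QuotientGroup.mk_mul, QuotientGroup.eq_one_iff]; exact hyy
    rw [QuotientGroup.mk_mul, Commute.orderOf_mul_eq_mul_orderOf_of_coprime
      (show Commute (y : G ⧸ Z) (h : G ⧸ Z) from hc.map (QuotientGroup.mk' Z))
      (by rw [hh', hy']; exact hcop), hh', hy']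

variable {F : Type u} [Field F] [Fintype F]

theorem finite_iso {V : Type*} [AddCommGroup V] [Module F V] [FiniteDimensional F V] (B : BilinForm F V) :
    Finite (Iso B) := by
  haveI : Finite V := Module.finite_of_finite F
  exact Finite.of_injective (fun g : Iso B => (g.1 : V → V)) fun g h hgh => iso_ext fun x => congrFun hgh x

theorem sp_center {n : ℕ} {z : Symplectic.Sp n F} (hz : z ∈ Subgroup.center (Symplectic.Sp n F)) : z * z = 1 := by
  rcases Symplectic.mem_center_iff.mp hz with rfl | rfl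
  · exact one_mul 1
  · exact Symplectic.eq_of_smul_eq fun v => by
      rw [mul_smul, Symplectic.negOne_smul, Symplectic.negOne_smul, neg_neg, one_smul]

theorem psp_odd_iff (n : ℕ) {N : ℕ} (hN : Odd N) :
    (N ∈ Set.range (orderOf : Cfsg.PSp n F → ℕ)) ↔ ∃ g : Iso (Forms.sympBilin n F), orderOf g = N := by
  classical
  rw [Set.mem_range]
  exact (exists_odd_quot_iff (fun z hz => sp_center hz) hN).trans
    ⟨fun ⟨g, hg⟩ => ⟨(spEquiv n F).symm g, by rw [MulEquiv.orderOf_eq, hg]⟩,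
      fun ⟨g, hg⟩ => ⟨spEquiv n F g, by rw [MulEquiv.orderOf_eq, hg]⟩⟩

theorem psp_two_iff (n : ℕ) {s : ℕ} (hs : s.Prime) (hs2 : s ≠ 2) :
    (2 * s ∈ Set.range (orderOf : Cfsg.PSp n F → ℕ)) ↔ TwoSp n F s := by
  classical
  rw [Set.mem_range]
  refine (exists_two_quot_iff (fun z hz => sp_center hz) hs hs2).trans ?_
  have hmem : ∀ g : Iso (Forms.sympBilin n F),
      spEquiv n F g ∈ Subgroup.center (Symplectic.Sp n F) ↔ g = 1 ∨ g = negI _ := fun g => by
    rw [Symplectic.mem_center_iff, ← spEquiv_negI, EmbeddingLike.map_eq_one_iff, EquivLike.apply_eq_iff_eq]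
  constructor
  · rintro ⟨h, y, hh, hc, hyy, hy⟩
    obtain ⟨h, rfl⟩ := (spEquiv n F).surjective h
    obtain ⟨y, rfl⟩ := (spEquiv n F).surjective y
    rw [← map_mul, hmem] at hyy
    rw [hmem, not_or] at hy
    rw [MulEquiv.orderOf_eq] at hh
    exact ⟨h, y, hh, (spEquiv n F).injective (by rw [map_mul, map_mul]; exact hc.eq), hyy, hy.1, hy.2⟩
  · rintro ⟨h, y, hh, hc, hyy, hy1, hy2⟩
    exact ⟨spEquiv n F h, spEquiv n F y, by rw [MulEquiv.orderOf_eq, hh], hc.map _,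
      by rw [← map_mul, hmem]; exact hyy, by rw [hmem, not_or]; exact ⟨hy1, hy2⟩⟩

theorem omega_center (h2 : (2 : F) ≠ 0) (n : ℕ) (hn : 2 ≤ n) :
    Subgroup.center ↥(Cfsg.Omega F ⇑(UnitaryOrthogonal.qOdd n F)) = ⊥ := by
  classical
  obtain ⟨k, rfl⟩ : ∃ k, n = k + 2 := ⟨n - 2, by omega⟩
  haveI := finite_iso (oB (k + 2) F)
  have hQ : ⇑(UnitaryOrthogonal.qOdd (k + 2) F) = Cfsg.quadFormOdd (k + 2) F :=
    funext (UnitaryOrthogonal.qOdd_apply (k + 2))
  have h4 := (UnitaryOrthogonal.pomega_odd (F := F) h2 k).2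
  rw [← Nat.card_congr (UnitaryOrthogonal.oddEquiv (k + 2) F).toEquiv, ← hQ] at h4
  have hidx := Reflections.omega_index_four h2 (qOdd_nondeg h2 (k + 2)) (by simp; omega)
  set O := Cfsg.Omega F ⇑(UnitaryOrthogonal.qOdd (k + 2) F)
  haveI : Finite ↥(Cfsg.isometryGroup F ⇑(UnitaryOrthogonal.qOdd (k + 2) F)) :=
    Finite.of_equiv _ (mEquiv (k + 2) h2).toEquiv
  have h1 := O.card_mul_index
  rw [hidx] at h1
  have h3 := Subgroup.card_eq_card_quotient_mul_card_subgroup (Subgroup.center ↥O)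
  rw [Subgroup.eq_bot_iff_card]
  have hpos : 0 < Nat.card (↥O ⧸ Subgroup.center ↥O) := Nat.card_pos
  change 4 * Nat.card (↥O ⧸ Subgroup.center ↥O) = _ at h4
  rw [← h1, h3] at h4
  nlinarith

theorem pomega_mem_iff (h2 : (2 : F) ≠ 0) (n : ℕ) (N : ℕ) :
    N ∈ Set.range (orderOf : Cfsg.POmega F ⇑(UnitaryOrthogonal.qOdd n F) → ℕ) ↔
      ∃ x : ↥(Cfsg.Omega F ⇑(UnitaryOrthogonal.qOdd n F)) ⧸
        Subgroup.center ↥(Cfsg.Omega F ⇑(UnitaryOrthogonal.qOdd n F)), orderOf x = N := Iff.rfl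

theorem pomega_odd_iff (h2 : (2 : F) ≠ 0) (n : ℕ) (hn : 2 ≤ n) {N : ℕ} (hN : Odd N) :
    (N ∈ Set.range (orderOf : Cfsg.POmega F (Cfsg.quadFormOdd n F) → ℕ)) ↔
      ∃ g : Iso (oB n F), orderOf g = N := by
  classical
  haveI := finite_iso (oB n F)
  rw [← funext (UnitaryOrthogonal.qOdd_apply n), pomega_mem_iff h2]
  haveI : Finite ↥(Cfsg.isometryGroup F ⇑(UnitaryOrthogonal.qOdd n F)) :=
    Finite.of_equiv _ (mEquiv n h2).toEquiv
  refine (exists_odd_quot_iff (fun z hz => by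
    rw [omega_center h2 n hn, Subgroup.mem_bot] at hz; rw [hz, one_mul]) hN).trans ?_
  constructor
  · rintro ⟨g, hg⟩
    exact ⟨(mEquiv n h2).symm g.1, by rw [MulEquiv.orderOf_eq, Subgroup.orderOf_coe, hg]⟩
  · rintro ⟨g, hg⟩
    exact ⟨⟨mEquiv n h2 g, (mem_commutator_iff n h2 g).mp (mem_commutator_of_odd n (by omega) h2 g (by rwa [hg]))⟩,
      by rw [← Subgroup.orderOf_coe, MulEquiv.orderOf_eq, hg]⟩

theorem pomega_two_iff (h2 : (2 : F) ≠ 0) (n : ℕ) (hn : 2 ≤ n) {s : ℕ} (hs : s.Prime) (hs2 : s ≠ 2) :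
    (2 * s ∈ Set.range (orderOf : Cfsg.POmega F (Cfsg.quadFormOdd n F) → ℕ)) ↔ TwoO n F s := by
  classical
  haveI := finite_iso (oB n F)
  rw [← funext (UnitaryOrthogonal.qOdd_apply n), pomega_mem_iff h2]
  haveI : Finite ↥(Cfsg.isometryGroup F ⇑(UnitaryOrthogonal.qOdd n F)) :=
    Finite.of_equiv _ (mEquiv n h2).toEquiv
  refine (exists_two_quot_iff (fun z hz => by
    rw [omega_center h2 n hn, Subgroup.mem_bot] at hz; rw [hz, one_mul]) hs hs2).trans ?_
  simp only [omega_center h2 n hn, Subgroup.mem_bot]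
  constructor
  · rintro ⟨⟨h, hh⟩, ⟨y, hy⟩, ho, hc, hyy, hy1⟩
    obtain ⟨h, rfl⟩ := (mEquiv n h2).surjective h
    obtain ⟨y, rfl⟩ := (mEquiv n h2).surjective y
    refine ⟨h, y, (mem_commutator_iff n h2 h).mpr hh, (mem_commutator_iff n h2 y).mpr hy, ?_, ?_, ?_, ?_⟩
    · rw [← Subgroup.orderOf_coe, MulEquiv.orderOf_eq] at ho; exact ho
    · exact (mEquiv n h2).injective (by rw [map_mul, map_mul]; exact congrArg Subtype.val hc.eq)
    · exact (mEquiv n h2).injective (by rw [map_mul, map_one]; exact congrArg Subtype.val hyy)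
    · rintro rfl; exact hy1 (Subtype.ext (map_one _))
  · rintro ⟨h, y, hh, hy, ho, hc, hyy, hy1⟩
    refine ⟨⟨_, (mem_commutator_iff n h2 h).mp hh⟩, ⟨_, (mem_commutator_iff n h2 y).mp hy⟩, ?_, ?_, ?_, ?_⟩
    · rw [← Subgroup.orderOf_coe, MulEquiv.orderOf_eq, ho]
    · exact Subtype.ext (congrArg (mEquiv n h2) hc.eq |>.symm.trans (map_mul _ _ _) |>.symm.trans (map_mul _ _ _))
    · exact Subtype.ext ((map_mul _ _ _).symm.trans ((congrArg (mEquiv n h2) hyy).trans (map_one _)))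
    · exact fun h1 => hy1 ((mEquiv n h2).injective ((congrArg Subtype.val h1).trans (map_one _).symm))

end Cfsg.Agent.Spectra36.PG
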